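import Groth.Agent.Lib.LiePts.Calc
import Mathlib.Algebra.Algebra.Subalgebra.Basic

/-!
# The bracket of infinitesimal points

The commutator of two tangent vectors read in the two coordinates of `B[ε][ε']` comes from a unique
tangent vector, the bracket; it is bilinear in the group law, alternating, and satisfies the
Leibniz identity.
-/

universe u

open CategoryTheory MonoidalCategory CartesianMonoidalCategory MonObj AlgebraicGeometry

namespace GrothLib.LiePts

variable {S : Scheme.{u}} {G : Over S} [MonObj G] {B : Type u} [CommRing B]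
  {f : Spec (CommRingCat.of B) ⟶ S}
variable {D D' : Type u} [CommRing D] [CommRing D'] [Algebra B D] [Algebra B D']

/-- The iterated dual numbers. -/
abbrev D2 (B : Type u) [CommRing B] : Type u := DualNumber (DualNumber B)

/-- The first coordinate `ε`. -/
noncomputable def E1 : D2 B := algebraMap (DualNumber B) (D2 B) DualNumber.eps

/-- The second coordinate `ε'`. -/
def E2 : D2 B := DualNumber.eps

lemma E1_sq : (E1 : D2 B) * E1 = 0 := by
  rw [E1, ← map_mul, DualNumber.eps_mul_eps, map_zero]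

lemma E2_sq : (E2 : D2 B) * E2 = 0 := DualNumber.eps_mul_eps

lemma mul_self_mul {a b : D} (ha : a * a = 0) : a * b * (a * b) = 0 := by
  rw [_root_.mul_mul_mul_comm, ha, zero_mul]

/-- `ε ↦ c`, `ε' ↦ d`. -/
noncomputable def biHom (c d : D) (hc : c * c = 0) (hd : d * d = 0) : D2 B →ₐ[B] D :=
  DualNumber.lift ⟨(epsHom c hc, d), hd, fun _ => mul_comm _ _⟩

lemma biHom_apply (c d : D) (hc : c * c = 0) (hd : d * d = 0) (x : D2 B) :
    biHom c d hc hd x = (algebraMap B D x.fst.fst + x.fst.snd • c) +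
      (algebraMap B D x.snd.fst + x.snd.snd • c) * d := by
  simp [biHom, DualNumber.lift_apply_apply, epsHom_apply]

@[simp] lemma biHom_E1 (c d : D) (hc : c * c = 0) (hd : d * d = 0) :
    biHom c d hc hd (E1 : D2 B) = c := by
  simp [biHom_apply, E1, TrivSqZeroExt.algebraMap_eq_inl]

@[simp] lemma biHom_E2 (c d : D) (hc : c * c = 0) (hd : d * d = 0) :
    biHom c d hc hd (E2 : D2 B) = d := by
  simp [biHom_apply, E2]

attribute [irreducible] biHom

/-- The commutator of two tangent vectors read in two coordinates. -/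
noncomputable def comm (c d : D) (hc : c * c = 0) (hd : d * d = 0)
    (x y : Pt G B f (DualNumber B)) : Pt G B f D :=
  ev c hc x * ev d hd y * ev (-c) (by rw [neg_mul_neg, hc]) x * ev (-d) (by rw [neg_mul_neg, hd]) y

lemma push_comm (φ : D →ₐ[B] D') (c d : D) (hc : c * c = 0) (hd : d * d = 0)
    (x y : Pt G B f (DualNumber B)) :
    push G B f φ (comm c d hc hd x y) =
      comm (φ c) (φ d) (by rw [← map_mul, hc, map_zero]) (by rw [← map_mul, hd, map_zero]) x y := by
  simp only [comm, map_mul, push_ev, map_neg]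

lemma comm_left_zero {x y : Pt G B f (DualNumber B)} (hx : IsTan x) (hy : IsTan y) (c d : D)
    (hc : c * c = 0) (hd : d * d = 0) (h : c = 0) : comm c d hc hd x y = 1 := by
  subst h
  rw [comm, ev_zero hx, ev_of_eq_zero hx _ _ neg_zero, _root_.one_mul, _root_.mul_one,
    ev_mul_ev_neg hy]

lemma comm_right_zero {x y : Pt G B f (DualNumber B)} (hx : IsTan x) (hy : IsTan y) (c d : D)
    (hc : c * c = 0) (hd : d * d = 0) (h : d = 0) : comm c d hc hd x y = 1 := by
  subst h
  rw [comm, ev_zero hy, ev_of_eq_zero hy _ _ neg_zero, _root_.mul_one, _root_.mul_one,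
    ev_mul_ev_neg hx]

/-- `B[η] → B[ε][ε']`, `η ↦ εε'`, as a map of `B`-algebras. -/
noncomputable def diag : DualNumber B →ₐ[B] D2 B :=
  epsHom (B := B) (E1 * E2 : D2 B) (mul_self_mul (a := (E1 : D2 B)) E1_sq)

/-- The augmentation of the iterated dual numbers. -/
noncomputable def aug : D2 B →ₐ[B] B :=
  biHom (0 : B) 0 (mul_zero 0) (mul_zero 0)

lemma aug_apply (x : D2 B) : aug x = x.fst.fst := by
  simp [aug, biHom_apply]

lemma E12_eq : (E1 * E2 : D2 B) = TrivSqZeroExt.inr DualNumber.eps := by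
  ext <;> simp [E1, E2, TrivSqZeroExt.algebraMap_eq_inl]

lemma smul_E12 (b : B) : b • (E1 * E2 : D2 B) = TrivSqZeroExt.inr (TrivSqZeroExt.inr b) := by
  rw [E12_eq]
  ext <;> simp

lemma diag_apply (e : DualNumber B) :
    diag e = algebraMap B (D2 B) e.fst + e.snd • (E1 * E2) := epsHom_apply _ _ _

lemma ev_E12_injective :
    Function.Injective (ev (G := G) (f := f) (E1 * E2 : D2 B) (mul_self_mul E1_sq)) :=
  ev_injective _ _ aug (by simp [aug]) fun a ha => by
    rw [smul_E12] at ha
    simpa using congrArg (fun t : D2 B => t.snd.snd) ha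

lemma exists_bracket {x y : Pt G B f (DualNumber B)} (hx : IsTan x) (hy : IsTan y) :
    ∃ z : Pt G B f (DualNumber B),
      IsTan z ∧ ev (E1 * E2 : D2 B) (mul_self_mul E1_sq) z = comm E2 E1 E2_sq E1_sq x y := by
  have hz0 : (0 : C2 B) * 0 = 0 := mul_zero 0
  obtain ⟨z, hz⟩ := pt_descent (G := G) (f := f) (D := D2 B) (D' := C2 B) (E := DualNumber B)
    diag (biHom e1 e2 e1_sq e2_sq) (biHom 0 0 hz0 hz0)
    (fun a b h => by
      rw [diag_apply, diag_apply, smul_E12, smul_E12] at h
      refine TrivSqZeroExt.ext ?_ ?_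
      · simpa [TrivSqZeroExt.algebraMap_eq_inl'] using congrArg (fun t : D2 B => t.fst.fst) h
      · simpa [TrivSqZeroExt.algebraMap_eq_inl'] using congrArg (fun t : D2 B => t.snd.snd) h)
    (hom_ext_eps (by simp [diag, e1, e2]))
    (fun d hd => by
      rw [biHom_apply, biHom_apply] at hd
      simp only [smul_zero, _root_.add_zero, mul_zero] at hd
      have h := congrArg TrivSqZeroExt.snd hd
      simp [e1, e2, TrivSqZeroExt.algebraMap_eq_inl', ← TrivSqZeroExt.inr_smul] at h
      refine ⟨TrivSqZeroExt.inl d.fst.fst + TrivSqZeroExt.inr d.snd.snd, ?_⟩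
      rw [diag_apply, smul_E12]
      obtain ⟨ha, hb⟩ := h
      ext <;> simp [TrivSqZeroExt.algebraMap_eq_inl', ha, hb])
    (fun d => ⟨TrivSqZeroExt.inl d.fst.fst, by
      rw [diag_apply]
      simp only [TrivSqZeroExt.fst_inl, TrivSqZeroExt.snd_inl, zero_smul, _root_.add_zero]
      have hd0 : (d - algebraMap B (D2 B) d.fst.fst).fst.fst = 0 := by
        simp [TrivSqZeroExt.algebraMap_eq_inl']
      refine ⟨4, ?_⟩
      generalize d - algebraMap B (D2 B) d.fst.fst = w at hd0
      have h1 : w.fst * w.fst = 0 := by ext <;> simp [hd0]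
      have h2 : (w * w).fst = 0 := by simpa using h1
      calc w ^ 4 = (w * w) * (w * w) := by ring
        _ = 0 := by ext1 <;> simp [h2]⟩)
    (comm E2 E1 E2_sq E1_sq x y) (by
      rw [← push_apply, ← push_apply]
      apply C2_ext <;>
      · simp only [push_comm, biHom_E1, biHom_E2, pr1_e1, pr1_e2, pr2_e1, pr2_e2, map_zero]
        first
          | rw [comm_left_zero hx hy _ _ _ _ rfl, comm_left_zero hx hy _ _ _ _ rfl]
          | rw [comm_right_zero hx hy _ _ _ _ rfl, comm_left_zero hx hy _ _ _ _ rfl])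
  refine ⟨z, ?_, ?_⟩
  · have h := congrArg (push G B f aug) hz
    rw [← push_apply, ← push_comp] at h
    rw [hom_ext_eps (φ := aug.comp diag) (ψ := TrivSqZeroExt.fstHom B B B) (by simp [diag, aug]),
      push_comm, comm_left_zero hx hy _ _ _ _ (by simp [aug])] at h
    exact h
  · rw [ev, push_apply]
    exact hz

/-- The bracket of two tangent vectors. -/
noncomputable def bracket {x y : Pt G B f (DualNumber B)} (hx : IsTan x) (hy : IsTan y) :
    Pt G B f (DualNumber B) :=
  (exists_bracket hx hy).choose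

lemma isTan_bracket {x y : Pt G B f (DualNumber B)} (hx : IsTan x) (hy : IsTan y) :
    IsTan (bracket hx hy) :=
  (exists_bracket hx hy).choose_spec.1

lemma bracket_spec {x y : Pt G B f (DualNumber B)} (hx : IsTan x) (hy : IsTan y) :
    ev (E1 * E2 : D2 B) (mul_self_mul E1_sq) (bracket hx hy) = comm E2 E1 E2_sq E1_sq x y :=
  (exists_bracket hx hy).choose_spec.2

lemma bracket_unique {x y z : Pt G B f (DualNumber B)} (hx : IsTan x) (hy : IsTan y)
    (h : ev (E1 * E2 : D2 B) (mul_self_mul E1_sq) z = comm E2 E1 E2_sq E1_sq x y) :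
    z = bracket hx hy :=
  ev_E12_injective (h.trans (bracket_spec hx hy).symm)

lemma comm_eq {x y : Pt G B f (DualNumber B)} (hx : IsTan x) (hy : IsTan y) (c d : D)
    (hc : c * c = 0) (hd : d * d = 0) :
    comm c d hc hd x y = ev (c * d) (mul_self_mul hc) (bracket hx hy) := by
  have h := congrArg (push G B f (biHom d c hd hc)) (bracket_spec hx hy)
  simp only [push_comm, push_ev, map_mul, biHom_E1, biHom_E2] at h
  rw [← h]
  exact ev_congr (mul_comm d c) _ _

/-- The reduction forgetting `ε'`. -/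
noncomputable def red1 : D2 B →ₐ[B] DualNumber B :=
  biHom DualNumber.eps 0 DualNumber.eps_mul_eps (mul_zero 0)

/-- The reduction forgetting `ε`. -/
noncomputable def red2 : D2 B →ₐ[B] DualNumber B :=
  biHom 0 DualNumber.eps (mul_zero 0) DualNumber.eps_mul_eps

lemma red_eq_iff (d : D2 B) : red1 d = red2 d ↔ d.fst.snd = d.snd.fst := by
  rw [red1, red2, biHom_apply, biHom_apply]
  constructor
  · intro h
    simpa [TrivSqZeroExt.algebraMap_eq_inl'] using congrArg TrivSqZeroExt.snd h
  · intro h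
    ext <;> simp [TrivSqZeroExt.algebraMap_eq_inl', h]

lemma swap_invariant {x : Pt G B f (DualNumber B)} (hx : IsTan x) :
    push G B f (biHom (E2 : D2 B) E1 E2_sq E1_sq)
        (ev (E1 : D2 B) E1_sq x * ev (E2 : D2 B) E2_sq x) =
      ev (E1 : D2 B) E1_sq x * ev (E2 : D2 B) E2_sq x := by
  let K : Subalgebra B (D2 B) := AlgHom.equalizer red1 red2
  obtain ⟨z, hz⟩ := pt_descent (G := G) (f := f) (D := D2 B) (D' := DualNumber B) (E := K)
    K.val red1 red2 Subtype.val_injective
    (show red1.comp K.val = red2.comp K.val from AlgHom.ext fun e =>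
      (AlgHom.mem_equalizer red1 red2 (e : D2 B)).1 e.2)
    (fun d hd => ⟨⟨d, (AlgHom.mem_equalizer red1 red2 d).2 hd⟩, rfl⟩)
    (fun d => ⟨⟨d - TrivSqZeroExt.inl (TrivSqZeroExt.inr (d.fst.snd - d.snd.fst)), by
      show red1 _ = red2 _
      rw [red_eq_iff]
      simp⟩, ⟨2, by
      show (d - (d - _)) ^ 2 = (0 : D2 B)
      rw [sub_sub_cancel, pow_two, ← TrivSqZeroExt.inl_mul, TrivSqZeroExt.inr_mul_inr,
        TrivSqZeroExt.inl_zero]⟩⟩)
    (ev E1 E1_sq x * ev E2 E2_sq x) (by
      rw [← push_apply, ← push_apply]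
      simp only [map_mul, push_ev, red1, red2, biHom_E1, biHom_E2, ev_zero hx, _root_.one_mul,
        _root_.mul_one])
  rw [← push_apply] at hz
  rw [← hz, ← push_comp]
  refine congrArg (fun φ => push G B f φ z) (AlgHom.ext fun e => ?_)
  obtain ⟨d, hd⟩ := e
  have h : d.fst.snd = d.snd.fst := (red_eq_iff d).1 hd
  show biHom E2 E1 E2_sq E1_sq d = d
  rw [biHom_apply]
  ext <;> simp [E1, E2, TrivSqZeroExt.algebraMap_eq_inl, TrivSqZeroExt.algebraMap_eq_inl', h]

lemma bracket_self {x : Pt G B f (DualNumber B)} (hx : IsTan x) : bracket hx hx = 1 := by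
  refine (bracket_unique hx hx ?_).symm
  have hsw : ev (E2 : D2 B) E2_sq x * ev E1 E1_sq x = ev E1 E1_sq x * ev E2 E2_sq x := by
    have := swap_invariant (G := G) (f := f) hx
    simpa only [map_mul, push_ev, biHom_E1, biHom_E2] using this
  rw [comm, hsw, _root_.mul_assoc (ev E1 E1_sq x), ev_mul_ev_neg hx, _root_.mul_one,
    ev_mul_ev_neg hx]
  exact map_one _

end GrothLib.LiePts
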