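import Groth.Agent.Lib.LiePts.LieAlg

/-!
# Comparison with the dual-number Lie functor
-/

universe u

open CategoryTheory MonoidalCategory CartesianMonoidalCategory MonObj GrpObj AlgebraicGeometry

namespace GrothLib.LiePts

variable {S : Scheme.{u}} {B : Type u} [CommRing B] (f : Spec (CommRingCat.of B) ⟶ S)

variable (B) in
lemma alg_id_comp : Spec.map (CommRingCat.ofHom (algebraMap B B)) ≫ f = f := by
  rw [Algebra.algebraMap_self, CommRingCat.ofHom_id]
  erw [Spec.map_id]
  exact Category.id_comp f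

variable (B) in
/-- `Spec B` in the two spellings. -/
noncomputable def ptIso0 : LieS.pt B f ≅ tp B f B :=
  Over.isoMk (Iso.refl (Spec (CommRingCat.of B))) (by
    show 𝟙 _ ≫ Spec.map _ ≫ f = f
    rw [Category.id_comp, alg_id_comp])

variable (B) in
/-- `Spec B[ε]` in the two spellings. -/
noncomputable def dptIso0 : tp B f (DualNumber B) ≅ LieS.dpt B f :=
  Over.isoMk (Iso.refl (Spec (CommRingCat.of (DualNumber B)))) (by
    show 𝟙 _ ≫ Spec.map _ ≫ f = Spec.map _ ≫ f
    exact Category.id_comp _)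

variable (B) in
/-- `Spec B[ε][ε']` in the two spellings. -/
noncomputable def d2ptIso0 : tp B f (D2 B) ≅ LieS.d2pt B f :=
  Over.isoMk (Iso.refl (Spec (CommRingCat.of (D2 B)))) (by
    show 𝟙 _ ≫ Spec.map _ ≫ Spec.map _ ≫ f = Spec.map _ ≫ f
    rw [Category.id_comp, ← Category.assoc, LieS.specMap_comp])

lemma dptIso0_left : (dptIso0 B f).hom.left = 𝟙 (Spec (CommRingCat.of (DualNumber B))) := rfl
lemma dptIso0_inv_left : (dptIso0 B f).inv.left = 𝟙 (Spec (CommRingCat.of (DualNumber B))) := rfl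
lemma ptIso0_left : (ptIso0 B f).hom.left = 𝟙 (Spec (CommRingCat.of B)) := rfl
lemma d2ptIso0_left : (d2ptIso0 B f).hom.left = 𝟙 (Spec (CommRingCat.of (D2 B))) := rfl

lemma zeroSec_eq :
    LieS.zeroSec B f ≫ (dptIso0 B f).inv =
      (ptIso0 B f).hom ≫ tpMap B f (TrivSqZeroExt.fstHom B B B) := by
  apply Over.OverMorphism.ext
  rw [Over.comp_left, Over.comp_left, dptIso0_inv_left, ptIso0_left]
  exact (Category.comp_id _).trans (Category.id_comp _).symm

lemma mulMap_eq :
    (d2ptIso0 B f).hom ≫ LieS.mulMap B f ≫ (dptIso0 B f).inv =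
      tpMap B f (epsHom (E1 * E2 : D2 B) (mul_self_mul E1_sq)) := by
  apply Over.OverMorphism.ext
  rw [Over.comp_left, Over.comp_left, dptIso0_inv_left, d2ptIso0_left]
  refine ((Category.id_comp _).trans (Category.comp_id _)).trans
    (congrArg (fun k => Spec.map (CommRingCat.ofHom k)) (RingHom.ext fun x => ?_))
  show LieS.mulHom B x = epsHom (E1 * E2 : D2 B) _ x
  rw [epsHom_apply, LieS.mulHom, LieS.dualHom_apply, smul_E12]
  ext <;> simp [TrivSqZeroExt.algebraMap_eq_inl']

lemma dptMap_eq :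
    (d2ptIso0 B f).hom ≫ LieS.dptMap f (algebraMap B (DualNumber B)) ≫ (dptIso0 B f).inv =
      tpMap B f (epsHom (E2 : D2 B) E2_sq) := by
  apply Over.OverMorphism.ext
  rw [Over.comp_left, Over.comp_left, dptIso0_inv_left, d2ptIso0_left]
  refine ((Category.id_comp _).trans (Category.comp_id _)).trans
    (congrArg (fun k => Spec.map (CommRingCat.ofHom k)) (RingHom.ext fun x => ?_))
  show LieS.bcHom (algebraMap B (DualNumber B)) x = epsHom (E2 : D2 B) _ x
  rw [epsHom_apply, LieS.bcHom, LieS.dualHom_apply]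
  ext <;> simp [E2, TrivSqZeroExt.algebraMap_eq_inl']

lemma proj_eq :
    (d2ptIso0 B f).hom ≫ LieS.proj (DualNumber B) (LieS.dpt B f).hom ≫ (dptIso0 B f).inv =
      tpMap B f (epsHom (E1 : D2 B) E1_sq) := by
  apply Over.OverMorphism.ext
  rw [Over.comp_left, Over.comp_left, dptIso0_inv_left, d2ptIso0_left]
  refine ((Category.id_comp _).trans (Category.comp_id _)).trans
    (congrArg (fun k => Spec.map (CommRingCat.ofHom k)) (RingHom.ext fun x => ?_))
  show algebraMap (DualNumber B) (D2 B) x = epsHom (E1 : D2 B) _ x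
  rw [epsHom_apply]
  ext <;> simp [E1, TrivSqZeroExt.algebraMap_eq_inl']

lemma scale_eq (b : B) :
    (dptIso0 B f).hom ≫ LieS.scale B f b ≫ (dptIso0 B f).inv =
      tpMap B f (epsHom (b • DualNumber.eps : DualNumber B)
        (by rw [smul_mul_smul_comm, DualNumber.eps_mul_eps, smul_zero])) := by
  apply Over.OverMorphism.ext
  rw [Over.comp_left, Over.comp_left, dptIso0_inv_left, dptIso0_left]
  refine ((Category.id_comp _).trans (Category.comp_id _)).trans
    (congrArg (fun k => Spec.map (CommRingCat.ofHom k)) (RingHom.ext fun x => ?_))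
  show LieS.scaleHom b x = epsHom (b • DualNumber.eps : DualNumber B) _ x
  rw [epsHom_apply, LieS.scaleHom, LieS.dualHom_apply]
  ext <;> simp [TrivSqZeroExt.algebraMap_eq_inl', mul_comm b]

section Monoid

variable {G : Over S} [MonObj G]

/-- Precomposition with an isomorphism, on points of a monoid. -/
noncomputable def isoPts {X Y : Over S} (e : X ≅ Y) : (Y ⟶ G) ≃* (X ⟶ G) where
  toFun w := e.hom ≫ w
  invFun w := e.inv ≫ w
  left_inv w := Iso.inv_hom_id_assoc _ w
  right_inv w := Iso.hom_inv_id_assoc _ w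
  map_mul' v w := MonObj.comp_mul _ v w

variable (B) in
/-- A dual-number point in the calculus. -/
noncomputable def toP : (LieS.dpt B f ⟶ G) ≃* Pt G B f (DualNumber B) where
  toFun v := (dptIso0 B f).hom ≫ v
  invFun w := (dptIso0 B f).inv ≫ w
  left_inv v := Iso.inv_hom_id_assoc _ v
  right_inv w := Iso.hom_inv_id_assoc _ w
  map_mul' v w := MonObj.comp_mul _ v w

lemma toP_apply (v : LieS.dpt B f ⟶ G) : toP B f v = (dptIso0 B f).hom ≫ v := rfl

lemma isTan_iff (v : LieS.dpt B f ⟶ G) :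
    IsTan (toP B f v) ↔ LieS.zeroSec B f ≫ v = 1 := by
  have h : LieS.zeroSec B f ≫ v =
      (ptIso0 B f).hom ≫ push G B f (TrivSqZeroExt.fstHom B B B) (toP B f v) := by
    rw [push_apply, toP_apply, ← Category.assoc, ← zeroSec_eq, Category.assoc,
      Iso.inv_hom_id_assoc]
  rw [h, IsTan]
  constructor
  · intro h1; rw [h1, MonObj.comp_one]
  · intro h1
    rw [← cancel_epi (ptIso0 B f).hom, h1, MonObj.comp_one]

lemma comp_toP {X : Over S} (g : LieS.d2pt B f ⟶ X) (h : X ⟶ LieS.dpt B f)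
    (φ : DualNumber B →ₐ[B] D2 B)
    (e : (d2ptIso0 B f).hom ≫ g ≫ h ≫ (dptIso0 B f).inv = tpMap B f φ)
    (v : LieS.dpt B f ⟶ G) :
    (d2ptIso0 B f).hom ≫ g ≫ h ≫ v = push G B f φ (toP B f v) := by
  rw [push_apply, ← e, toP_apply]
  simp only [Category.assoc, Iso.inv_hom_id_assoc]

lemma read_eq (h : LieS.d2pt B f ⟶ LieS.dpt B f) (φ : DualNumber B →ₐ[B] D2 B)
    (e : (d2ptIso0 B f).hom ≫ h ≫ (dptIso0 B f).inv = tpMap B f φ)
    (v : LieS.dpt B f ⟶ G) :
    (d2ptIso0 B f).hom ≫ h ≫ v = push G B f φ (toP B f v) := by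
  rw [push_apply, ← e, toP_apply]
  simp only [Category.assoc, Iso.inv_hom_id_assoc]

lemma isUnit_of_isTan {x : Pt G B f (DualNumber B)} (hx : IsTan x) : IsUnit x := by
  refine ⟨⟨x, ev (-DualNumber.eps : DualNumber B)
    (by rw [neg_mul_neg, DualNumber.eps_mul_eps]) x, ?_, ?_⟩, rfl⟩
  · nth_rw 1 [← ev_eps x]
    exact ev_mul_ev_neg hx _ DualNumber.eps_mul_eps
  · nth_rw 2 [← ev_eps x]
    exact ev_neg_mul_ev hx _ DualNumber.eps_mul_eps

lemma isUnit_iff_restrict (v : LieS.dpt B f ⟶ G) :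
    IsUnit v ↔ IsUnit (LieS.zeroSec B f ≫ v) := by
  let r : (LieS.dpt B f ⟶ G) →* (LieS.pt B f ⟶ G) :=
    { toFun := fun w => LieS.zeroSec B f ≫ w
      map_one' := MonObj.comp_one _
      map_mul' := fun a b => MonObj.comp_mul _ a b }
  let s : (LieS.pt B f ⟶ G) →* (LieS.dpt B f ⟶ G) :=
    { toFun := fun w => LieS.proj B f ≫ w
      map_one' := MonObj.comp_one _
      map_mul' := fun a b => MonObj.comp_mul _ a b }
  refine ⟨fun h => h.map r, fun h => ?_⟩
  obtain ⟨u, hu⟩ := h
  have hrs : r (s ↑u⁻¹) = ↑u⁻¹ := by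
    show LieS.zeroSec B f ≫ LieS.proj B f ≫ _ = _
    rw [← Category.assoc, LieS.zeroSec_proj, Category.id_comp]
  have h1 : IsTan (toP B f (v * s ↑u⁻¹)) := by
    rw [isTan_iff]
    show r (v * s ↑u⁻¹) = 1
    rw [map_mul, hrs, show r v = ↑u from hu.symm, Units.mul_inv]
  have h2 : IsUnit (v * s ↑u⁻¹) := by
    simpa using (isUnit_of_isTan f h1).map (toP B f).symm
  have h3 : IsUnit (s ↑u) := u.isUnit.map s
  have h4 := h2.mul h3
  rwa [_root_.mul_assoc, ← map_mul, Units.inv_mul, map_one, _root_.mul_one] at h4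

end Monoid

section Group

variable {G : Over S} [GrpObj G]

variable (G B) in
/-- Tangent vectors are the elements of the Lie functor. -/
noncomputable def tanEquiv : Multiplicative (TanVec G B f) ≃* LieS.Lie G B f where
  toFun x := ⟨(toP B f).symm (Multiplicative.toAdd x).val, by
    rw [LieS.mem_Lie_iff, ← isTan_iff f, MulEquiv.apply_symm_apply]
    exact (Multiplicative.toAdd x).isTan⟩
  invFun v := Multiplicative.ofAdd ⟨toP B f v.1, (isTan_iff f v.1).2 v.2⟩
  left_inv x := congrArg Multiplicative.ofAdd (TanVec.ext ((toP B f).apply_symm_apply _))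
  right_inv v := Subtype.ext ((toP B f).symm_apply_apply v.1)
  map_mul' x y := Subtype.ext (map_mul (toP B f).symm _ _)

lemma toP_tanEquiv (x : Multiplicative (TanVec G B f)) :
    toP B f (tanEquiv B f G x).1 = (Multiplicative.toAdd x).val :=
  (toP B f).apply_symm_apply _

lemma toP_smul (b : B) (v : LieS.Lie G B f) : toP B f (b • v).1 = sc b (toP B f v.1) := by
  rw [LieS.smul_val, sc, ev, push_apply, ← scale_eq, toP_apply, toP_apply]
  simp only [Category.assoc, Iso.inv_hom_id_assoc]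

lemma tanEquiv_smul (b : B) (x : TanVec G B f) :
    tanEquiv B f G (Multiplicative.ofAdd (b • x)) = b • tanEquiv B f G (Multiplicative.ofAdd x) := by
  apply Subtype.ext
  apply (toP B f).injective
  rw [toP_smul, toP_tanEquiv, toP_tanEquiv]
  rfl

variable (B) in
/-- A point over the iterated dual numbers in the calculus. -/
noncomputable def toP2 : (LieS.d2pt B f ⟶ G) ≃* Pt G B f (D2 B) :=
  isoPts (G := G) (d2ptIso0 B f)

lemma toP2_apply (w : LieS.d2pt B f ⟶ G) : toP2 B f w = (d2ptIso0 B f).hom ≫ w := rfl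

lemma toP2_second (v : LieS.dpt B f ⟶ G) :
    toP2 B f (LieS.dptMap f (algebraMap B (DualNumber B)) ≫ v) =
      ev (E2 : D2 B) E2_sq (toP B f v) := by
  rw [toP2_apply, ev]
  exact read_eq f _ _ (dptMap_eq f) v

lemma toP2_first (v : LieS.dpt B f ⟶ G) :
    toP2 B f (LieS.proj (DualNumber B) (LieS.dpt B f).hom ≫ v) =
      ev (E1 : D2 B) E1_sq (toP B f v) := by
  rw [toP2_apply, ev]
  exact read_eq f _ _ (proj_eq f) v

lemma toP2_mul (v : LieS.dpt B f ⟶ G) :
    toP2 B f (LieS.mulMap B f ≫ v) =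
      ev (E1 * E2 : D2 B) (mul_self_mul E1_sq) (toP B f v) := by
  rw [toP2_apply, ev]
  exact read_eq f _ _ (mulMap_eq f) v

lemma toP2_commutator (u w : LieS.dpt B f ⟶ G) (hu : IsTan (toP B f u)) (hw : IsTan (toP B f w))
    (X Y : LieS.d2pt B f ⟶ G) (hX : toP2 B f X = ev (E2 : D2 B) E2_sq (toP B f u))
    (hY : toP2 B f Y = ev (E1 : D2 B) E1_sq (toP B f w)) :
    toP2 B f (X * Y * X⁻¹ * Y⁻¹) = comm E2 E1 E2_sq E1_sq (toP B f u) (toP B f w) := by
  rw [map_mul, map_mul, map_mul, map_inv, map_inv, hX, hY]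
  exact (comm_eq_commutator hu hw _ _ _ _).symm

lemma isBracket_iff (x y z : LieS.Lie G B f) :
    LieS.IsBracket G B f x y z ↔
      ev (E1 * E2 : D2 B) (mul_self_mul E1_sq) (toP B f z.1) =
        comm E2 E1 E2_sq E1_sq (toP B f x.1) (toP B f y.1) := by
  rw [LieS.IsBracket, ← toP2_mul, ← toP2_commutator f x.1 y.1 ((isTan_iff f x.1).2 x.2)
    ((isTan_iff f y.1).2 y.2) _ _ (toP2_second f x.1) (toP2_first f y.1)]
  exact (toP2 B f).injective.eq_iff.symm

lemma tanEquiv_lie (x y : TanVec G B f) :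
    LieS.IsBracket G B f (tanEquiv B f G (Multiplicative.ofAdd x))
      (tanEquiv B f G (Multiplicative.ofAdd y)) (tanEquiv B f G (Multiplicative.ofAdd ⁅x, y⁆)) := by
  rw [isBracket_iff]
  simp only [toP_tanEquiv]
  exact bracket_spec x.isTan y.isTan

variable (G B) in
/-- The Lie-algebra model of the Lie functor. -/
noncomputable def model : LieS.Model G B f (TanVec G B f) where
  e := tanEquiv B f G
  e_smul := tanEquiv_smul f
  e_lie := tanEquiv_lie f

lemma isBracket_unique (x y z z' : LieS.Lie G B f) (h : LieS.IsBracket G B f x y z)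
    (h' : LieS.IsBracket G B f x y z') : z = z' := by
  rw [isBracket_iff] at h h'
  exact Subtype.ext ((toP B f).injective (ev_E12_injective (h.trans h'.symm)))

lemma zpow_eq_smul (v : LieS.Lie G B f) (n : ℤ) : v ^ n = (n : B) • v := by
  obtain ⟨x, rfl⟩ := (tanEquiv B f G).surjective v
  rw [← map_zpow, ← ofAdd_toAdd x, ← tanEquiv_smul, ← ofAdd_zsmul, Int.cast_smul_eq_zsmul]

end Group

end GrothLib.LiePts
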