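import Groth.Agent.Lib.LiePts.SpecDescent
import Groth.Prelude.Def_LieS

/-!
# Calculus of infinitesimal points

For an `S`-monoid `G` and an affine `S`-scheme `Spec B`, the points of `G` with values in
`B`-algebras `D`, and the evaluation `ev c x` of a tangent vector `x` at an element `c` of square
zero.
-/

universe u

open CategoryTheory MonoidalCategory CartesianMonoidalCategory MonObj AlgebraicGeometry

namespace GrothLib.LiePts

variable {S : Scheme.{u}} (G : Over S) (B : Type u) [CommRing B]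
  (f : Spec (CommRingCat.of B) ⟶ S)
variable {D D' D'' : Type u} [CommRing D] [CommRing D'] [CommRing D'']
  [Algebra B D] [Algebra B D'] [Algebra B D'']

/-- The test scheme `Spec D` over `S`. -/
noncomputable abbrev tp (D : Type u) [CommRing D] [Algebra B D] : Over S :=
  Over.mk (Spec.map (CommRingCat.ofHom (algebraMap B D)) ≫ f)

/-- Points of `G` with values in `D`. -/
abbrev Pt (D : Type u) [CommRing D] [Algebra B D] : Type u := tp B f D ⟶ G

/-- The morphism of test schemes attached to an algebra map. -/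
noncomputable def tpMap (φ : D →ₐ[B] D') : tp B f D' ⟶ tp B f D :=
  Over.homMk (Spec.map (CommRingCat.ofHom φ.toRingHom)) (by
    show Spec.map _ ≫ Spec.map _ ≫ f = Spec.map _ ≫ f
    rw [← Category.assoc, ← Spec.map_comp, ← CommRingCat.ofHom_comp]
    exact congrArg (fun k => Spec.map (CommRingCat.ofHom k) ≫ f) φ.comp_algebraMap)

lemma tpMap_left (φ : D →ₐ[B] D') :
    (tpMap B f φ).left = Spec.map (CommRingCat.ofHom φ.toRingHom) := rfl

lemma tpMap_comp (φ : D →ₐ[B] D') (ψ : D' →ₐ[B] D'') :
    tpMap B f (ψ.comp φ) = tpMap B f ψ ≫ tpMap B f φ := by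
  apply Over.OverMorphism.ext
  rw [Over.comp_left, tpMap_left, tpMap_left, tpMap_left, ← Spec.map_comp]
  rfl

lemma tpMap_id : tpMap B f (AlgHom.id B D) = 𝟙 _ := by
  apply Over.OverMorphism.ext
  exact Spec.map_id _

variable {G B f}

/-- Points that agree under a jointly injective pair of reductions are equal. -/
lemma pt_ext (π₁ : D →ₐ[B] D') (π₂ : D →ₐ[B] D'')
    (hsurj : Function.Surjective (PrimeSpectrum.comap π₁.toRingHom))
    (hinj : ∀ d, π₁ d = 0 → π₂ d = 0 → d = 0) {a b : Pt G B f D}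
    (h₁ : tpMap B f π₁ ≫ a = tpMap B f π₁ ≫ b) (h₂ : tpMap B f π₂ ≫ a = tpMap B f π₂ ≫ b) :
    a = b :=
  Over.OverMorphism.ext (spec_hom_ext π₁.toRingHom π₂.toRingHom hsurj hinj _ _
    (congrArg (fun t => t.left) h₁) (congrArg (fun t => t.left) h₂))

/-- Descent of points along equalisers. -/
lemma pt_descent {E : Type u} [CommRing E] [Algebra B E] (j : E →ₐ[B] D) (p q : D →ₐ[B] D')
    (hι : Function.Injective j) (hpq : p.comp j = q.comp j)
    (heq : ∀ d, p d = q d → ∃ e, j e = d) (hnil : ∀ d : D, ∃ e : E, IsNilpotent (d - j e))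
    (a : Pt G B f D) (h : tpMap B f p ≫ a = tpMap B f q ≫ a) :
    ∃ z : Pt G B f E, tpMap B f j ≫ z = a := by
  obtain ⟨z, hz⟩ := exists_descent («ι» := j.toRingHom) (p := p.toRingHom) (q := q.toRingHom) hι
    (congrArg AlgHom.toRingHom hpq) heq hnil a.left (congrArg (fun t => t.left) h)
  refine ⟨Over.homMk z ?_, Over.OverMorphism.ext hz⟩
  refine spec_hom_ext j.toRingHom j.toRingHom (comap_surjective hι hnil)
    (fun d hd _ => hι (hd.trans (map_zero j).symm)) _ _ ?_ ?_ <;>
  · show _ ≫ z ≫ G.hom = _ ≫ Spec.map _ ≫ f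
    rw [← Category.assoc, hz, Over.w a, ← Category.assoc, ← Spec.map_comp]
    exact congrArg (fun k => Spec.map (CommRingCat.ofHom k) ≫ f) j.comp_algebraMap.symm

variable (G B f) [MonObj G]

/-- Functoriality of points, as a monoid map. -/
noncomputable def push (φ : D →ₐ[B] D') : Pt G B f D →* Pt G B f D' where
  toFun a := tpMap B f φ ≫ a
  map_one' := MonObj.comp_one _
  map_mul' a b := MonObj.comp_mul _ a b

variable {G B f}

lemma push_apply (φ : D →ₐ[B] D') (a : Pt G B f D) : push G B f φ a = tpMap B f φ ≫ a := rfl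

lemma push_comp (φ : D →ₐ[B] D') (ψ : D' →ₐ[B] D'') (a : Pt G B f D) :
    push G B f (ψ.comp φ) a = push G B f ψ (push G B f φ a) := by
  simp only [push_apply, tpMap_comp, Category.assoc]

lemma push_id (a : Pt G B f D) : push G B f (AlgHom.id B D) a = a := by
  rw [push_apply, tpMap_id, Category.id_comp]

/-- `ε ↦ c`. -/
noncomputable def epsHom (c : D) (hc : c * c = 0) : DualNumber B →ₐ[B] D :=
  DualNumber.lift ⟨(Algebra.ofId B D, c), hc, fun _ => mul_comm _ _⟩

@[simp] lemma epsHom_eps (c : D) (hc : c * c = 0) :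
    epsHom c hc (DualNumber.eps : DualNumber B) = c := by
  simp [epsHom]

lemma epsHom_apply (c : D) (hc : c * c = 0) (x : DualNumber B) :
    epsHom c hc x = algebraMap B D x.fst + x.snd • c := by
  simp [epsHom, DualNumber.lift_apply_apply, Algebra.smul_def, Algebra.ofId_apply]

attribute [irreducible] epsHom

lemma hom_ext_eps {φ ψ : DualNumber B →ₐ[B] D}
    (h : φ DualNumber.eps = ψ DualNumber.eps) : φ = ψ :=
  DualNumber.algHom_ext h

/-- A tangent vector at the unit. -/
def IsTan (x : Pt G B f (DualNumber B)) : Prop :=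
  push G B f (TrivSqZeroExt.fstHom B B B) x = 1

/-- Evaluation of a tangent vector at a square-zero element. -/
noncomputable def ev (c : D) (hc : c * c = 0) (x : Pt G B f (DualNumber B)) : Pt G B f D :=
  push G B f (epsHom c hc) x

lemma ev_congr {c c' : D} (h : c = c') (hc : c * c = 0) (x : Pt G B f (DualNumber B)) :
    ev c hc x = ev c' (h ▸ hc) x := by
  subst h; rfl

lemma ev_eps (x : Pt G B f (DualNumber B)) :
    ev (DualNumber.eps : DualNumber B) DualNumber.eps_mul_eps x = x := by
  rw [ev, hom_ext_eps (φ := epsHom _ _) (ψ := AlgHom.id B _) (by simp), push_id]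

lemma push_ev (φ : D →ₐ[B] D') (c : D) (hc : c * c = 0) (x : Pt G B f (DualNumber B)) :
    push G B f φ (ev c hc x) = ev (φ c) (by rw [← map_mul, hc, map_zero]) x := by
  rw [ev, ev, ← push_comp]
  exact congrArg (fun k => push G B f k x) (hom_ext_eps (by simp))

lemma ev_mul_pts (c : D) (hc : c * c = 0) (x y : Pt G B f (DualNumber B)) :
    ev c hc (x * y) = ev c hc x * ev c hc y := map_mul _ _ _

lemma ev_ev (c : D) (hc : c * c = 0) (d : DualNumber B) (hd : d * d = 0)
    (x : Pt G B f (DualNumber B)) :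
    ev c hc (ev d hd x) = ev (epsHom c hc d) (by rw [← map_mul, hd, map_zero]) x :=
  push_ev _ _ _ _

lemma ev_zero {x : Pt G B f (DualNumber B)} (hx : IsTan x) :
    ev (0 : D) (mul_zero 0) x = 1 := by
  rw [ev, hom_ext_eps (φ := epsHom _ _) (ψ := (Algebra.ofId B D).comp (TrivSqZeroExt.fstHom B B B))
    (by simp), push_comp, hx, map_one]

lemma ev_of_eq_zero {x : Pt G B f (DualNumber B)} (hx : IsTan x) (c : D) (hc : c * c = 0)
    (h : c = 0) : ev c hc x = 1 := by
  subst h; exact ev_zero hx

lemma isTan_one : IsTan (1 : Pt G B f (DualNumber B)) := map_one _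

lemma IsTan.mul {x y : Pt G B f (DualNumber B)} (hx : IsTan x) (hy : IsTan y) : IsTan (x * y) := by
  rw [IsTan, map_mul, show push G B f _ x = 1 from hx, show push G B f _ y = 1 from hy,
    _root_.one_mul]

lemma IsTan.ev {x : Pt G B f (DualNumber B)} (hx : IsTan x) (d : DualNumber B) (hd : d * d = 0)
    (h0 : d.fst = 0) : IsTan (ev d hd x) := by
  rw [IsTan, push_ev]
  exact ev_of_eq_zero hx _ _ h0

/-- The first-order neighbourhood with two coordinates. -/
abbrev C2 (B : Type u) [CommRing B] : Type u := TrivSqZeroExt B (B × B)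

/-- The first projection. -/
noncomputable def pr1 : C2 B →ₐ[B] DualNumber B := TrivSqZeroExt.map (LinearMap.fst B B B)

/-- The second projection. -/
noncomputable def pr2 : C2 B →ₐ[B] DualNumber B := TrivSqZeroExt.map (LinearMap.snd B B B)

/-- The first coordinate. -/
def e1 : C2 B := TrivSqZeroExt.inr (1, 0)

/-- The second coordinate. -/
def e2 : C2 B := TrivSqZeroExt.inr (0, 1)

lemma e1_sq : (e1 : C2 B) * e1 = 0 := TrivSqZeroExt.inr_mul_inr _ _ _
lemma e2_sq : (e2 : C2 B) * e2 = 0 := TrivSqZeroExt.inr_mul_inr _ _ _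

lemma e12_sq : (e1 + e2 : C2 B) * (e1 + e2) = 0 := by
  simp [e1, e2, ← TrivSqZeroExt.inr_add]

@[simp] lemma pr1_e1 : pr1 (e1 : C2 B) = DualNumber.eps := by
  rw [pr1, e1, TrivSqZeroExt.map_inr]; rfl

@[simp] lemma pr1_e2 : pr1 (e2 : C2 B) = 0 := by
  simp [pr1, e2, TrivSqZeroExt.map_inr]

@[simp] lemma pr2_e1 : pr2 (e1 : C2 B) = 0 := by
  simp [pr2, e1, TrivSqZeroExt.map_inr]

@[simp] lemma pr2_e2 : pr2 (e2 : C2 B) = DualNumber.eps := by
  rw [pr2, e2, TrivSqZeroExt.map_inr]; rfl

/-- A reduction through which an augmentation factors is surjective on points. -/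
lemma comap_surjective_of_aug (π : D →+* D') (r : D' →+* B)
    (hr : ∀ x : D, IsNilpotent (x - algebraMap B D (r (π x)))) :
    Function.Surjective (PrimeSpectrum.comap π) := by
  intro P
  refine ⟨PrimeSpectrum.comap r (PrimeSpectrum.comap (algebraMap B D) P),
    PrimeSpectrum.ext (Ideal.ext fun x => ?_)⟩
  obtain ⟨n, hn⟩ := hr x
  have h0 : x - algebraMap B D (r (π x)) ∈ P.asIdeal := P.2.mem_of_pow_mem n (hn ▸ P.asIdeal.zero_mem)
  show algebraMap B D (r (π x)) ∈ P.asIdeal ↔ x ∈ P.asIdeal
  exact ⟨fun h => by simpa using P.asIdeal.add_mem h0 h,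
    fun h => by simpa using P.asIdeal.sub_mem h h0⟩

lemma tsze_sub_nilpotent {M : Type u} [AddCommGroup M] [Module B M] [Module Bᵐᵒᵖ M]
    [IsCentralScalar B M] (x : TrivSqZeroExt B M) :
    IsNilpotent (x - algebraMap B (TrivSqZeroExt B M) x.fst) := by
  refine ⟨2, ?_⟩
  have : x - algebraMap B (TrivSqZeroExt B M) x.fst = TrivSqZeroExt.inr x.snd := by
    ext <;> simp [TrivSqZeroExt.algebraMap_eq_inl']
  rw [this, pow_two, TrivSqZeroExt.inr_mul_inr]

lemma C2_ext {a b : Pt G B f (C2 B)} (h₁ : push G B f pr1 a = push G B f pr1 b)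
    (h₂ : push G B f pr2 a = push G B f pr2 b) : a = b := by
  rw [push_apply, push_apply] at h₁ h₂
  have key := fun hs hi => pt_ext (G := G) (D := C2 B) (D' := DualNumber B)
    (D'' := DualNumber B) (a := a) (b := b) pr1 pr2 hs hi
  refine key ?_ ?_ h₁ h₂
  · refine comap_surjective_of_aug _ (TrivSqZeroExt.fstHom B B B).toRingHom fun x => ?_
    have h : (TrivSqZeroExt.fstHom B B B) (pr1 x) = x.fst := by simp [pr1]
    show IsNilpotent (x - algebraMap B (C2 B) ((TrivSqZeroExt.fstHom B B B) (pr1 x)))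
    rw [h]
    exact tsze_sub_nilpotent x
  · intro d h1 h2
    have hf := congrArg TrivSqZeroExt.fst h1
    have hs1 := congrArg TrivSqZeroExt.snd h1
    have hs2 := congrArg TrivSqZeroExt.snd h2
    simp [pr1, pr2] at hf hs1 hs2
    exact TrivSqZeroExt.ext hf (Prod.ext hs1 hs2)

lemma commute_e {x y : Pt G B f (DualNumber B)} (hx : IsTan x) (hy : IsTan y) :
    ev (e1 : C2 B) e1_sq x * ev e2 e2_sq y = ev e2 e2_sq y * ev e1 e1_sq x := by
  apply C2_ext <;> simp only [map_mul, push_ev, pr1_e1, pr1_e2, pr2_e1, pr2_e2, ev_eps,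
    ev_zero hx, ev_zero hy, _root_.one_mul, _root_.mul_one]

lemma add_e {x : Pt G B f (DualNumber B)} (hx : IsTan x) :
    ev (e1 + e2 : C2 B) e12_sq x = ev e1 e1_sq x * ev e2 e2_sq x := by
  apply C2_ext <;> simp only [map_mul, push_ev, map_add, pr1_e1, pr1_e2, pr2_e1, pr2_e2,
    _root_.add_zero, _root_.zero_add, ev_eps, ev_zero hx, _root_.one_mul, _root_.mul_one]

/-- The map from the two-coordinate neighbourhood attached to two elements of product zero. -/
noncomputable def pairHom (c d : D) (hc : c * c = 0) (hd : d * d = 0) (hcd : c * d = 0) :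
    C2 B →ₐ[B] D :=
  TrivSqZeroExt.lift (Algebra.ofId B D)
    ((LinearMap.toSpanSingleton B D c).coprod (LinearMap.toSpanSingleton B D d))
    (fun x y => by
      simp only [LinearMap.coprod_apply, LinearMap.toSpanSingleton_apply]
      have hdc : d * c = 0 := by rw [_root_.mul_comm, hcd]
      simp only [add_mul, mul_add, smul_mul_smul_comm, hc, hd, hcd, hdc, smul_zero, _root_.add_zero])
    (fun r x => by simp [Algebra.smul_def, Algebra.ofId_apply, mul_add, _root_.mul_assoc])
    (fun r x => by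
      simp [Algebra.smul_def, Algebra.ofId_apply, mul_add, _root_.mul_assoc, _root_.mul_comm,
        _root_.mul_left_comm])

lemma pairHom_e1 (c d : D) (hc : c * c = 0) (hd : d * d = 0) (hcd : c * d = 0) :
    pairHom (B := B) c d hc hd hcd e1 = c := by
  simp [pairHom, e1]

lemma pairHom_e2 (c d : D) (hc : c * c = 0) (hd : d * d = 0) (hcd : c * d = 0) :
    pairHom (B := B) c d hc hd hcd e2 = d := by
  simp [pairHom, e2]

lemma commute_ev {x y : Pt G B f (DualNumber B)} (hx : IsTan x) (hy : IsTan y) (c d : D)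
    (hc : c * c = 0) (hd : d * d = 0) (hcd : c * d = 0) :
    ev c hc x * ev d hd y = ev d hd y * ev c hc x := by
  have := congrArg (push G B f (pairHom c d hc hd hcd)) (commute_e hx hy)
  simpa only [map_mul, push_ev, pairHom_e1, pairHom_e2] using this

lemma ev_add {x : Pt G B f (DualNumber B)} (hx : IsTan x) (c d : D)
    (hc : c * c = 0) (hd : d * d = 0) (hcd : c * d = 0) (hs : (c + d) * (c + d) = 0) :
    ev (c + d) hs x = ev c hc x * ev d hd x := by
  have := congrArg (push G B f (pairHom c d hc hd hcd)) (add_e hx)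
  simpa only [map_mul, push_ev, map_add, pairHom_e1, pairHom_e2] using this

lemma ev_mul_ev_neg {x : Pt G B f (DualNumber B)} (hx : IsTan x) (c : D) (hc : c * c = 0) :
    ev c hc x * ev (-c) (by rw [neg_mul_neg, hc]) x = 1 := by
  have hs : (c + -c) * (c + -c) = 0 := by simp
  rw [← ev_add hx c (-c) hc _ (by rw [mul_neg, hc, neg_zero]) hs]
  exact ev_of_eq_zero hx _ _ (add_neg_cancel c)

lemma ev_neg_mul_ev {x : Pt G B f (DualNumber B)} (hx : IsTan x) (c : D) (hc : c * c = 0) :
    ev (-c) (by rw [neg_mul_neg, hc]) x * ev c hc x = 1 := by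
  have hs : (-c + c) * (-c + c) = 0 := by simp
  rw [← ev_add hx (-c) c _ hc (by rw [neg_mul, hc, neg_zero]) hs]
  exact ev_of_eq_zero hx _ _ (neg_add_cancel c)

lemma ev_injective (c : D) (hc : c * c = 0) (r : D →ₐ[B] B) (hr : r c = 0)
    (hfree : ∀ a : B, a • c = 0 → a = 0) :
    Function.Injective (ev (G := G) (f := f) c hc) := by
  intro a b h
  rw [ev, ev, push_apply, push_apply] at h
  have key := fun hs hi => pt_ext (G := G) (D := DualNumber B) (D' := D) (D'' := D)
    (a := a) (b := b) (epsHom c hc) (epsHom c hc) hs hi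
  refine key ?_ ?_ h h
  · refine comap_surjective_of_aug _ r.toRingHom fun x => ?_
    have : r (epsHom c hc x) = x.fst := by simp [epsHom_apply, hr]
    show IsNilpotent (x - algebraMap B (DualNumber B) (r (epsHom c hc x)))
    rw [this]
    exact tsze_sub_nilpotent x
  · intro d hd _
    have hf : d.fst = 0 := by
      have := congrArg r hd
      simpa [epsHom_apply, hr] using this
    rw [epsHom_apply, hf, map_zero, _root_.zero_add] at hd
    exact TrivSqZeroExt.ext hf (hfree _ hd)

end GrothLib.LiePts
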