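import Groth.Prelude.Def_LieS
import Mathlib.AlgebraicGeometry.AffineScheme

/-!
# Centralisers and the adjoint action on tangent vectors
-/

universe u

open CategoryTheory MonoidalCategory CartesianMonoidalCategory MonObj GrpObj AlgebraicGeometry

namespace GrothLib.LiePts

variable {S : Scheme.{u}} {G K : Over S} [GrpObj G] [GrpObj K] (i : K ⟶ G)
variable {B : Type u} [CommRing B] {f : Spec (CommRingCat.of B) ⟶ S}

lemma Ad_val {C : Type u} [CommRing C] (f' : Spec (CommRingCat.of C) ⟶ S)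
    (g : LieS.pt C f' ⟶ G) (v : LieS.Lie G C f') :
    (LieS.Ad G C f' g v).1 = (LieS.proj C f' ≫ g) * v.1 * (LieS.proj C f' ≫ g)⁻¹ := rfl

lemma pull_val {C : Type u} [CommRing C] (h : B →+* C) (v : LieS.Lie G B f) :
    (LieS.pull G f h v).1 = LieS.dptMap f h ≫ v.1 := rfl

lemma fixed_of_commute (x : LieS.Lie G B f)
    (H : ∀ (X' : Over S) (y : X' ⟶ LieS.dpt B f) (h : X' ⟶ K),
      (y ≫ x.1) * (h ≫ i) = (h ≫ i) * (y ≫ x.1))
    {C : Type u} [CommRing C] (h : B →+* C)
    (k : LieS.pt C (Spec.map (CommRingCat.ofHom h) ≫ f) ⟶ K) :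
    LieS.Ad G C (Spec.map (CommRingCat.ofHom h) ≫ f) (k ≫ i) (LieS.pull G f h x) =
      LieS.pull G f h x := by
  apply Subtype.ext
  rw [Ad_val, pull_val, mul_inv_eq_iff_eq_mul, ← Category.assoc]
  exact (H _ _ _).symm

lemma commute_affine_of_fixed (x : LieS.Lie G B f)
    (H : ∀ (C : Type u) [CommRing C] (h : B →+* C)
      (k : LieS.pt C (Spec.map (CommRingCat.ofHom h) ≫ f) ⟶ K),
      LieS.Ad G C (Spec.map (CommRingCat.ofHom h) ≫ f) (k ≫ i) (LieS.pull G f h x) =
        LieS.pull G f h x)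
    {C : Type u} [CommRing C] (f' : Spec (CommRingCat.of C) ⟶ S)
    (a : LieS.pt C f' ⟶ LieS.dpt B f) (b : LieS.pt C f' ⟶ K) :
    (a ≫ x.1) * (b ≫ i) = (b ≫ i) * (a ≫ x.1) := by
  obtain ⟨φ₀, hφ⟩ : ∃ φ, Spec.map φ = a.left := Spec.map_surjective _
  let φ : DualNumber B →+* C := φ₀.hom
  let j : B →+* C := φ.comp (algebraMap B (DualNumber B))
  let c : C := φ DualNumber.eps
  have hc : c * c = 0 := by rw [← map_mul, DualNumber.eps_mul_eps, map_zero]
  have hf : f' = Spec.map (CommRingCat.ofHom j) ≫ f := by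
    have hw : a.left ≫ (LieS.dpt B f).hom = f' := Over.w a
    have hd : (LieS.dpt B f).hom =
        Spec.map (CommRingCat.ofHom (algebraMap B (DualNumber B))) ≫ f := rfl
    rw [← hw, hd, ← hφ]
    exact ((Category.assoc _ _ _).symm).trans (congrArg (· ≫ f) (Spec.map_comp _ _).symm)
  subst hf
  let r : LieS.pt C (Spec.map (CommRingCat.ofHom j) ≫ f) ⟶
      LieS.dpt C (Spec.map (CommRingCat.ofHom j) ≫ f) :=
    Over.homMk (Spec.map (CommRingCat.ofHom (LieS.dualHom (RingHom.id C) c hc))) (by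
      show Spec.map _ ≫ Spec.map _ ≫ _ = _
      rw [← Category.assoc, LieS.specMap_comp, LieS.dualHom_comp_algebraMap, CommRingCat.ofHom_id]
      erw [Spec.map_id]
      exact Category.id_comp _)
  have hr : r ≫ LieS.proj C _ = 𝟙 _ := by
    apply Over.OverMorphism.ext
    show Spec.map _ ≫ Spec.map _ = 𝟙 _
    rw [LieS.specMap_comp, LieS.dualHom_comp_algebraMap, CommRingCat.ofHom_id]
    erw [Spec.map_id]
  have ha : r ≫ LieS.dptMap f j = a := by
    apply Over.OverMorphism.ext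
    show Spec.map _ ≫ Spec.map _ = a.left
    rw [LieS.specMap_comp, ← hφ]
    refine congrArg Spec.map (CommRingCat.hom_ext (RingHom.ext fun y => ?_))
    show LieS.dualHom (RingHom.id C) c hc (LieS.bcHom j y) = φ y
    have hy : y = algebraMap B (DualNumber B) y.fst +
        algebraMap B (DualNumber B) y.snd * DualNumber.eps := by
      ext <;> simp [TrivSqZeroExt.algebraMap_eq_inl']
    conv_rhs => rw [hy, map_add, map_mul]
    simp [LieS.bcHom, LieS.dualHom_apply, TrivSqZeroExt.algebraMap_eq_inl', j, c]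
  have h0 := congrArg Subtype.val (H C j b)
  rw [Ad_val, pull_val, mul_inv_eq_iff_eq_mul] at h0
  have h1 := congrArg (fun t => r ≫ t) h0
  simp only [MonObj.comp_mul, ← Category.assoc, hr, ha, Category.id_comp] at h1
  exact h1.symm

lemma commute_of_fixed (x : LieS.Lie G B f)
    (H : ∀ (C : Type u) [CommRing C] (h : B →+* C)
      (k : LieS.pt C (Spec.map (CommRingCat.ofHom h) ≫ f) ⟶ K),
      LieS.Ad G C (Spec.map (CommRingCat.ofHom h) ≫ f) (k ≫ i) (LieS.pull G f h x) =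
        LieS.pull G f h x)
    (X' : Over S) (y : X' ⟶ LieS.dpt B f) (h : X' ⟶ K) :
    (y ≫ x.1) * (h ≫ i) = (h ≫ i) * (y ≫ x.1) := by
  apply Over.OverMorphism.ext
  refine Scheme.hom_ext_of_forall _ _ fun P => ?_
  obtain ⟨W, hW, hPW, -⟩ :=
    exists_isAffineOpen_mem_and_subset (show P ∈ (⊤ : X'.left.Opens) from trivial)
  refine ⟨W, hPW, ?_⟩
  let t : LieS.pt Γ(X'.left, W) (hW.fromSpec ≫ X'.hom) ⟶ X' := Over.homMk hW.fromSpec rfl
  have h1 := commute_affine_of_fixed i x H (hW.fromSpec ≫ X'.hom) (t ≫ y) (t ≫ h)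
  simp only [Category.assoc, ← MonObj.comp_mul] at h1
  have h2 : hW.fromSpec ≫ ((y ≫ x.1) * (h ≫ i)).left = hW.fromSpec ≫ ((h ≫ i) * (y ≫ x.1)).left :=
    congrArg (fun q => q.left) h1
  rw [← hW.isoSpec_inv_ι, Category.assoc, Category.assoc] at h2
  exact (cancel_epi _).1 h2

end GrothLib.LiePts
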