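import Groth.Agent.Lib.LiePts.Bracket
import Mathlib.CategoryTheory.Monoidal.Cartesian.Grp

/-!
# The Lie algebra of an `S`-group

Tangent vectors at the unit of a group scheme over `S`, with values in an affine scheme `Spec B`,
form a Lie algebra over `B`.
-/

universe u

open CategoryTheory MonoidalCategory CartesianMonoidalCategory MonObj GrpObj AlgebraicGeometry

namespace GrothLib.LiePts

variable {S : Scheme.{u}} {G : Over S} [GrpObj G] {B : Type u} [CommRing B]
  {f : Spec (CommRingCat.of B) ⟶ S}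
variable {D : Type u} [CommRing D] [Algebra B D]

lemma ev_inv {x : Pt G B f (DualNumber B)} (hx : IsTan x) (c : D) (hc : c * c = 0) :
    (ev c hc x)⁻¹ = ev (-c) (by rw [neg_mul_neg, hc]) x :=
  inv_eq_of_mul_eq_one_right (ev_mul_ev_neg hx c hc)

lemma comm_eq_commutator {x y : Pt G B f (DualNumber B)} (hx : IsTan x) (hy : IsTan y) (c d : D)
    (hc : c * c = 0) (hd : d * d = 0) :
    comm c d hc hd x y = ev c hc x * ev d hd y * (ev c hc x)⁻¹ * (ev d hd y)⁻¹ := by
  rw [comm, ev_inv hx, ev_inv hy]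

omit [Algebra B D] in
lemma mul_mul_self {a b : D} (ha : a * a = 0) : a * (b * a) = 0 := by
  linear_combination b * ha

/-- Rescaling of a tangent vector. -/
noncomputable def sc (b : B) (x : Pt G B f (DualNumber B)) : Pt G B f (DualNumber B) :=
  ev (b • DualNumber.eps : DualNumber B)
    (by rw [smul_mul_smul_comm, DualNumber.eps_mul_eps, smul_zero]) x

lemma ev_sc (b : B) (x : Pt G B f (DualNumber B)) (c : D) (hc : c * c = 0) :
    ev c hc (sc b x) = ev (b • c) (by rw [smul_mul_smul_comm, hc, smul_zero]) x := by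
  rw [sc, ev_ev]
  exact ev_congr (by rw [map_smul, epsHom_eps]) _ _

lemma isTan_sc (b : B) {x : Pt G B f (DualNumber B)} (hx : IsTan x) : IsTan (sc b x) :=
  hx.ev _ _ (by simp)

lemma eq_of_ev_eps {x y : Pt G B f (DualNumber B)}
    (h : ev (DualNumber.eps : DualNumber B) DualNumber.eps_mul_eps x =
      ev DualNumber.eps DualNumber.eps_mul_eps y) : x = y := by
  rwa [ev_eps, ev_eps] at h

lemma bracket_mul_left {x x' y : Pt G B f (DualNumber B)} (hx : IsTan x) (hx' : IsTan x')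
    (hy : IsTan y) :
    bracket (hx.mul hx') hy = bracket hx hy * bracket hx' hy := by
  refine (bracket_unique (hx.mul hx') hy ?_).symm
  have h1 := comm_eq hx hy (E2 : D2 B) E1 E2_sq E1_sq
  have h2 := comm_eq hx' hy (E2 : D2 B) E1 E2_sq E1_sq
  have hc : Commute (ev (E2 : D2 B) E2_sq x)
      (ev ((E2 : D2 B) * E1) (mul_self_mul E2_sq) (bracket hx' hy)) :=
    commute_ev hx (isTan_bracket hx' hy) _ _ _ _ (by rw [← _root_.mul_assoc, E2_sq, zero_mul])
  rw [comm_eq_commutator (hx.mul hx') hy, ev_mul_pts, ev_mul_pts]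
  refine (congrArg₂ (· * ·) (ev_congr (mul_comm (E1 : D2 B) E2) (mul_self_mul E1_sq) (bracket hx hy))
    (ev_congr (mul_comm (E1 : D2 B) E2) (mul_self_mul E1_sq) (bracket hx' hy))).trans ?_
  rw [comm_eq_commutator hx' hy] at h2
  rw [comm_eq_commutator hx hy] at h1
  have hh : ev ((E2 : D2 B) * E1) (mul_self_mul E2_sq) (bracket hx' hy) *
      ev ((E2 : D2 B) * E1) (mul_self_mul E2_sq) (bracket hx hy) =
      ev (E2 : D2 B) E2_sq x * ev (E2 : D2 B) E2_sq x' * ev E1 E1_sq y *
        (ev (E2 : D2 B) E2_sq x * ev (E2 : D2 B) E2_sq x')⁻¹ * (ev E1 E1_sq y)⁻¹ := by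
    rw [← h1]
    calc ev ((E2 : D2 B) * E1) (mul_self_mul E2_sq) (bracket hx' hy) *
          (ev E2 E2_sq x * ev E1 E1_sq y * (ev E2 E2_sq x)⁻¹ * (ev E1 E1_sq y)⁻¹)
        = ev E2 E2_sq x * ev (E2 * E1) (mul_self_mul E2_sq) (bracket hx' hy) *
            ev E1 E1_sq y * (ev E2 E2_sq x)⁻¹ * (ev E1 E1_sq y)⁻¹ := by
          rw [hc.eq]; group
      _ = _ := by rw [← h2]; group
  rw [← hh]
  exact commute_ev (isTan_bracket hx hy) (isTan_bracket hx' hy) _ _ _ _
    (mul_self_mul E2_sq)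

lemma bracket_mul_right {x y y' : Pt G B f (DualNumber B)} (hx : IsTan x) (hy : IsTan y)
    (hy' : IsTan y') :
    bracket hx (hy.mul hy') = bracket hx hy * bracket hx hy' := by
  refine (bracket_unique hx (hy.mul hy') ?_).symm
  have h1 := comm_eq hx hy (E2 : D2 B) E1 E2_sq E1_sq
  have h2 := comm_eq hx hy' (E2 : D2 B) E1 E2_sq E1_sq
  have hc : Commute (ev (E1 : D2 B) E1_sq y)
      (ev ((E2 : D2 B) * E1) (mul_self_mul E2_sq) (bracket hx hy')) :=
    commute_ev hy (isTan_bracket hx hy') _ _ _ _ (mul_mul_self E1_sq)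
  rw [comm_eq_commutator hx (hy.mul hy'), ev_mul_pts, ev_mul_pts]
  refine (congrArg₂ (· * ·) (ev_congr (mul_comm (E1 : D2 B) E2) (mul_self_mul E1_sq) (bracket hx hy))
    (ev_congr (mul_comm (E1 : D2 B) E2) (mul_self_mul E1_sq) (bracket hx hy'))).trans ?_
  rw [comm_eq_commutator hx hy'] at h2
  rw [comm_eq_commutator hx hy] at h1
  have hh : ev ((E2 : D2 B) * E1) (mul_self_mul E2_sq) (bracket hx hy) *
      (ev (E1 : D2 B) E1_sq y * ev ((E2 : D2 B) * E1) (mul_self_mul E2_sq) (bracket hx hy') *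
        (ev (E1 : D2 B) E1_sq y)⁻¹) =
      ev (E2 : D2 B) E2_sq x * (ev (E1 : D2 B) E1_sq y * ev E1 E1_sq y') *
        (ev (E2 : D2 B) E2_sq x)⁻¹ * (ev (E1 : D2 B) E1_sq y * ev E1 E1_sq y')⁻¹ := by
    rw [← h1, ← h2]
    group
  rw [← hh, hc.eq, _root_.mul_inv_cancel_right]

lemma smul_sq (b : B) {c : D} (hc : c * c = 0) : b • c * (b • c) = 0 := by
  rw [smul_mul_smul_comm, hc, smul_zero]

lemma comm_sc_left (b : B) {x y : Pt G B f (DualNumber B)} (hx : IsTan x) (hy : IsTan y) (c d : D)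
    (hc : c * c = 0) (hd : d * d = 0) :
    comm c d hc hd (sc b x) y = ev (d * c) (mul_self_mul hd) (sc b (bracket hx hy)) := by
  rw [comm_eq_commutator (isTan_sc b hx) hy, ev_sc, ev_sc,
    ← comm_eq_commutator hx hy _ _ (smul_sq b hc) hd, comm_eq hx hy]
  exact ev_congr (by rw [smul_mul_assoc, mul_comm c d]) _ _

lemma comm_sc_right (b : B) {x y : Pt G B f (DualNumber B)} (hx : IsTan x) (hy : IsTan y) (c d : D)
    (hc : c * c = 0) (hd : d * d = 0) :
    comm c d hc hd x (sc b y) = ev (d * c) (mul_self_mul hd) (sc b (bracket hx hy)) := by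
  rw [comm_eq_commutator hx (isTan_sc b hy), ev_sc, ev_sc,
    ← comm_eq_commutator hx hy _ _ hc (smul_sq b hd), comm_eq hx hy]
  exact ev_congr (by rw [mul_smul_comm, mul_comm c d]) _ _

lemma bracket_sc_left (b : B) {x y : Pt G B f (DualNumber B)} (hx : IsTan x) (hy : IsTan y) :
    bracket (isTan_sc b hx) hy = sc b (bracket hx hy) :=
  (bracket_unique (isTan_sc b hx) hy (comm_sc_left b hx hy E2 E1 E2_sq E1_sq).symm).symm

lemma bracket_sc_right (b : B) {x y : Pt G B f (DualNumber B)} (hx : IsTan x) (hy : IsTan y) :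
    bracket hx (isTan_sc b hy) = sc b (bracket hx hy) :=
  (bracket_unique hx (isTan_sc b hy) (comm_sc_right b hx hy E2 E1 E2_sq E1_sq).symm).symm

/-- Three-fold dual numbers. -/
abbrev D3 (B : Type u) [CommRing B] : Type u := DualNumber (D2 B)

set_option synthInstance.maxHeartbeats 400000 in
/-- The augmentation of the three-fold dual numbers. -/
noncomputable def aug3 : D3 B →ₐ[B] B :=
  (aug (B := B)).comp (TrivSqZeroExt.fstHom B (D2 B) (D2 B))

set_option synthInstance.maxHeartbeats 400000 in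
set_option maxSynthPendingDepth 3 in
lemma bracket_leibniz {x y z : Pt G B f (DualNumber B)} (hx : IsTan x) (hy : IsTan y)
    (hz : IsTan z) :
    bracket hz (isTan_bracket hx hy) =
      bracket hx (isTan_bracket hz hy) * bracket (isTan_bracket hz hx) hy := by
  let c₁ : D3 B := TrivSqZeroExt.inl (E1 : D2 B)
  let c₂ : D3 B := TrivSqZeroExt.inl (E2 : D2 B)
  let c₃ : D3 B := DualNumber.eps
  have h1 : c₁ * c₁ = 0 := by rw [← TrivSqZeroExt.inl_mul, E1_sq, TrivSqZeroExt.inl_zero]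
  have h2 : c₂ * c₂ = 0 := by rw [← TrivSqZeroExt.inl_mul, E2_sq, TrivSqZeroExt.inl_zero]
  have h3 : c₃ * c₃ = 0 := DualNumber.eps_mul_eps
  have hc : c₁ * c₂ * c₃ * (c₁ * c₂ * c₃) = 0 := by linear_combination (c₂ * c₃) ^ 2 * h1
  have hfree : ∀ a : B, a • (c₁ * c₂ * c₃) = 0 → a = 0 := fun a ha => by
    have h := congrArg (fun t : D3 B => t.snd.snd.snd) ha
    simpa [c₁, c₂, c₃, TrivSqZeroExt.algebraMap_eq_inl, E12_eq] using h
  have haug : aug3 (c₁ * c₂ * c₃) = 0 := by
    simp [aug3, aug_apply, c₁, c₂, c₃]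
  refine ev_injective (c₁ * c₂ * c₃) hc aug3 haug hfree ?_
  set p := bracket hx hy
  set q := bracket hz hx
  set r := bracket hz hy
  have hp : IsTan p := isTan_bracket hx hy
  have hq : IsTan q := isTan_bracket hz hx
  have hr : IsTan r := isTan_bracket hz hy
  rw [ev_mul_pts]
  -- commutator identities
  have k31 := comm_eq hz hx c₃ c₁ h3 h1
  have k32 := comm_eq hz hy c₃ c₂ h3 h2
  have k12 := comm_eq hx hy c₁ c₂ h1 h2
  have k3P := comm_eq hz hp c₃ (c₁ * c₂) h3 (mul_self_mul h1)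
  have k1R := comm_eq hx hr c₁ (c₃ * c₂) h1 (mul_self_mul h3)
  have kQ2 := comm_eq hq hy (c₃ * c₁) c₂ (mul_self_mul h3) h2
  have kQR := comm_eq hq hr (c₃ * c₁) (c₃ * c₂) (mul_self_mul h3) (mul_self_mul h3)
  rw [ev_of_eq_zero (isTan_bracket hq hr) _ _ (by linear_combination (c₁ * c₂) * h3)] at kQR
  rw [comm_eq_commutator hz hx] at k31
  rw [comm_eq_commutator hz hy] at k32
  rw [comm_eq_commutator hx hy] at k12
  rw [comm_eq_commutator hz hp] at k3P
  rw [comm_eq_commutator hx hr] at k1R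
  rw [comm_eq_commutator hq hy] at kQ2
  rw [comm_eq_commutator hq hr] at kQR
  rw [ev_congr (show c₃ * (c₁ * c₂) = c₁ * c₂ * c₃ by ring)] at k3P
  rw [ev_congr (show c₁ * (c₃ * c₂) = c₁ * c₂ * c₃ by ring)] at k1R
  rw [ev_congr (show c₃ * c₁ * c₂ = c₁ * c₂ * c₃ by ring)] at kQ2
  set a := ev c₁ h1 x
  set b := ev c₂ h2 y
  set c := ev c₃ h3 z
  set P := ev (c₁ * c₂) (mul_self_mul h1) p
  set Q := ev (c₃ * c₁) (mul_self_mul h3) q
  set R := ev (c₃ * c₂) (mul_self_mul h3) r
  have hXP : Commute (ev (c₁ * c₂ * c₃) hc (bracket hq hy)) P :=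
    commute_ev (isTan_bracket hq hy) hp _ _ _ _ (by linear_combination (c₂ ^ 2 * c₃) * h1)
  have hRP : Commute R P :=
    commute_ev hr hp _ _ _ _ (by linear_combination (c₁ * c₃) * h2)
  have hRY : Commute R (ev (c₁ * c₂ * c₃) hc (bracket hq hy)) :=
    commute_ev hr (isTan_bracket hq hy) _ _ _ _ (by linear_combination (c₂ ^ 2 * c₁) * h3)
  have hQP : Commute Q P :=
    commute_ev hq hp _ _ _ _ (by linear_combination (c₂ * c₃) * h1)
  have hQX : Commute Q (ev (c₁ * c₂ * c₃) hc (bracket hx hr)) :=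
    commute_ev hq (isTan_bracket hx hr) _ _ _ _ (by linear_combination (c₁ ^ 2 * c₂) * h3)
  set X := ev (c₁ * c₂ * c₃) hc (bracket hx hr)
  set Y := ev (c₁ * c₂ * c₃) hc (bracket hq hy)
  set Z := ev (c₁ * c₂ * c₃) hc (bracket hz hp)
  have e1 : c * a * c⁻¹ = Q * a := by rw [← k31]; group
  have e2 : c * b * c⁻¹ = R * b := by rw [← k32]; group
  have e3 : c * P * c⁻¹ = Z * P := by rw [← k3P]; group
  have e4 : a * (R * b) * a⁻¹ * (R * b)⁻¹ = X * P := by
    calc a * (R * b) * a⁻¹ * (R * b)⁻¹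
        = (a * R * a⁻¹ * R⁻¹) * (R * (a * b * a⁻¹ * b⁻¹) * R⁻¹) := by group
      _ = X * P := by rw [k1R, k12, hRP.eq, _root_.mul_inv_cancel_right]
  have e5 : Q * (R * b) * Q⁻¹ * (R * b)⁻¹ = Y := by
    calc Q * (R * b) * Q⁻¹ * (R * b)⁻¹
        = (Q * R * Q⁻¹ * R⁻¹) * (R * (Q * b * Q⁻¹ * b⁻¹) * R⁻¹) := by group
      _ = Y := by rw [kQR, kQ2, hRY.eq, _root_.mul_inv_cancel_right, _root_.one_mul]
  have key : Z * P = X * Y * P := by
    calc Z * P = c * P * c⁻¹ := e3.symm
      _ = (c * a * c⁻¹) * (c * b * c⁻¹) * (c * a * c⁻¹)⁻¹ * (c * b * c⁻¹)⁻¹ := by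
          rw [← k12]; group
      _ = Q * (a * (R * b) * a⁻¹ * (R * b)⁻¹) * Q⁻¹ * (Q * (R * b) * Q⁻¹ * (R * b)⁻¹) := by
          rw [e1, e2]; group
      _ = X * P * Y := by
          rw [e4, e5, (hQX.mul_right hQP).eq, _root_.mul_inv_cancel_right]
      _ = X * Y * P := by rw [_root_.mul_assoc, _root_.mul_assoc, hXP.eq]
  exact mul_right_cancel key

variable (G B f)

/-- A tangent vector at the unit section. -/
@[ext]
structure TanVec : Type u where
  /-- the underlying point -/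
  val : Pt G B f (DualNumber B)
  /-- it restricts to the unit -/
  isTan : IsTan val

variable {G B f}

noncomputable instance : Zero (TanVec G B f) := ⟨⟨1, isTan_one⟩⟩
noncomputable instance : Add (TanVec G B f) := ⟨fun x y => ⟨x.val * y.val, x.isTan.mul y.isTan⟩⟩
noncomputable instance : SMul B (TanVec G B f) := ⟨fun b x => ⟨sc b x.val, isTan_sc b x.isTan⟩⟩
noncomputable instance : Neg (TanVec G B f) := ⟨fun x => (-1 : B) • x⟩
noncomputable instance : Bracket (TanVec G B f) (TanVec G B f) :=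
  ⟨fun x y => ⟨bracket x.isTan y.isTan, isTan_bracket _ _⟩⟩

lemma zero_val : (0 : TanVec G B f).val = 1 := rfl
lemma add_val (x y : TanVec G B f) : (x + y).val = x.val * y.val := rfl
lemma smul_val (b : B) (x : TanVec G B f) : (b • x).val = sc b x.val := rfl
lemma lie_val (x y : TanVec G B f) : ⁅x, y⁆.val = bracket x.isTan y.isTan := rfl

lemma sc_one (x : Pt G B f (DualNumber B)) : sc 1 x = x := by
  rw [sc, ev_congr (one_smul B (DualNumber.eps : DualNumber B))]
  exact ev_eps x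

lemma sc_add (a b : B) {x : Pt G B f (DualNumber B)} (hx : IsTan x) :
    sc (a + b) x = sc a x * sc b x := by
  rw [sc, ev_congr (add_smul a b (DualNumber.eps : DualNumber B))]
  exact ev_add hx _ _ _ _ (by rw [smul_mul_smul_comm, DualNumber.eps_mul_eps, smul_zero]) _

lemma sc_zero {x : Pt G B f (DualNumber B)} (hx : IsTan x) : sc 0 x = 1 :=
  ev_of_eq_zero hx _ _ (zero_smul B _)

lemma sc_sc (a b : B) (x : Pt G B f (DualNumber B)) : sc a (sc b x) = sc (a * b) x := by
  rw [sc, ev_sc, sc]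
  exact ev_congr (by rw [smul_smul, mul_comm b a]) _ _

lemma mul_comm_tan {x y : Pt G B f (DualNumber B)} (hx : IsTan x) (hy : IsTan y) :
    x * y = y * x := by
  have := commute_ev hx hy (DualNumber.eps : DualNumber B) DualNumber.eps DualNumber.eps_mul_eps
    DualNumber.eps_mul_eps DualNumber.eps_mul_eps
  simpa only [ev_eps] using this

lemma sc_neg_one_mul {x : Pt G B f (DualNumber B)} (hx : IsTan x) : sc (-1) x * x = 1 := by
  conv_lhs => arg 2; rw [← sc_one x]
  rw [← sc_add _ _ hx, neg_add_cancel, sc_zero hx]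

noncomputable instance : AddCommGroup (TanVec G B f) where
  add_assoc x y z := TanVec.ext (_root_.mul_assoc _ _ _)
  zero_add x := TanVec.ext (_root_.one_mul _)
  add_zero x := TanVec.ext (_root_.mul_one _)
  nsmul := nsmulRec
  zsmul := zsmulRec
  neg_add_cancel x := TanVec.ext (sc_neg_one_mul x.isTan)
  add_comm x y := TanVec.ext (mul_comm_tan x.isTan y.isTan)

noncomputable instance : Module B (TanVec G B f) where
  one_smul x := TanVec.ext (sc_one _)
  mul_smul a b x := TanVec.ext (sc_sc a b _).symm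
  smul_zero b := TanVec.ext (by rw [smul_val, zero_val, sc, ev, map_one])
  smul_add b x y := TanVec.ext (by simp only [smul_val, add_val, sc, ev_mul_pts])
  add_smul a b x := TanVec.ext (sc_add a b x.isTan)
  zero_smul x := TanVec.ext (sc_zero x.isTan)

noncomputable instance : LieRing (TanVec G B f) where
  add_lie x y z := TanVec.ext (bracket_mul_left x.isTan y.isTan z.isTan)
  lie_add x y z := TanVec.ext (bracket_mul_right x.isTan y.isTan z.isTan)
  lie_self x := TanVec.ext (bracket_self x.isTan)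
  leibniz_lie x y z := TanVec.ext <| by
    exact (bracket_leibniz y.isTan z.isTan x.isTan).trans
      (mul_comm_tan (isTan_bracket _ _) (isTan_bracket _ _))

noncomputable instance : LieAlgebra B (TanVec G B f) where
  lie_smul b x y := TanVec.ext (bracket_sc_right b x.isTan y.isTan)

end GrothLib.LiePts
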