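import Groth.Agent.Lib.LiePts.SpecExt

/-!
# Descent of morphisms along equalisers of nilpotent thickenings
-/

universe u

open CategoryTheory CategoryTheory.Limits AlgebraicGeometry

namespace GrothLib.LiePts

variable {E D D' : Type u} [CommRing E] [CommRing D] [CommRing D'] {ι : E →+* D} {p q : D →+* D'}

/-- Local coordinate rings of an equaliser. -/
lemma away_lift (hι : Function.Injective ι) (hpq : p.comp ι = q.comp ι)
    (heq : ∀ d, p d = q d → ∃ e, ι e = d) (e : E) (x : Localization.Away (ι e))
    (hx : IsLocalization.Away.map (Localization.Away (ι e)) (Localization.Away (p (ι e))) p (ι e) x =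
      IsLocalization.map (M := Submonoid.powers (ι e)) (T := Submonoid.powers (p (ι e)))
        (Localization.Away (p (ι e))) q (by
          rintro _ ⟨n, rfl⟩
          refine ⟨n, ?_⟩
          simpa using congrArg (fun r => r ^ n) (RingHom.congr_fun hpq e)) x) :
    ∃ y, IsLocalization.Away.map (Localization.Away e) (Localization.Away (ι e)) ι e y = x := by
  obtain ⟨n, a, ha⟩ := IsLocalization.Away.surj (ι e) x
  have hqe : q (ι e) = p (ι e) := (RingHom.congr_fun hpq e).symm
  have h : algebraMap D' (Localization.Away (p (ι e))) (p a) =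
      algebraMap D' (Localization.Away (p (ι e))) (q a) := by
    have h1 := congrArg (IsLocalization.Away.map (Localization.Away (ι e))
      (Localization.Away (p (ι e))) p (ι e)) ha
    have h2 := congrArg (IsLocalization.map (M := Submonoid.powers (ι e))
      (S := Localization.Away (ι e)) (T := Submonoid.powers (p (ι e)))
        (Localization.Away (p (ι e))) q (by
          rintro _ ⟨n, rfl⟩
          refine ⟨n, ?_⟩
          simpa using congrArg (fun r => r ^ n) (RingHom.congr_fun hpq e))) ha
    simp only [map_mul, map_pow, IsLocalization.Away.map, IsLocalization.map_eq, hqe] at h1 h2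
    rw [← h1, ← h2]
    simp only [IsLocalization.Away.map] at hx
    rw [hx]
  obtain ⟨⟨_, m, rfl⟩, hm⟩ := (IsLocalization.eq_iff_exists (Submonoid.powers (p (ι e))) _).1 h
  obtain ⟨e', he'⟩ := heq (ι e ^ m * a) (by
    rw [map_mul, map_mul, map_pow, map_pow, hqe]
    simpa using hm)
  have hu : IsUnit (algebraMap E (Localization.Away e) e) := IsLocalization.Away.algebraMap_isUnit e
  obtain ⟨v, hv⟩ := hu.pow (n + m)
  refine ⟨algebraMap E _ e' * ↑v⁻¹, ?_⟩
  have hu' : IsUnit (algebraMap D (Localization.Away (ι e)) (ι e)) :=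
    IsLocalization.Away.algebraMap_isUnit (ι e)
  rw [← (hu'.pow (n + m)).mul_left_inj]
  have hv' : IsLocalization.Away.map (Localization.Away e) (Localization.Away (ι e)) ι e ↑v =
      algebraMap D (Localization.Away (ι e)) (ι e) ^ (n + m) := by
    rw [hv, map_pow]
    simp [IsLocalization.Away.map]
  rw [map_mul, mul_assoc, ← hv', ← map_mul, Units.inv_mul, map_one, mul_one, hv', pow_add,
    ← mul_assoc, ha]
  simp only [IsLocalization.Away.map, IsLocalization.map_eq, he', map_mul, map_pow]
  ring

lemma away_map_injective (hι : Function.Injective ι) (e : E) :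
    Function.Injective
      (IsLocalization.Away.map (Localization.Away e) (Localization.Away (ι e)) ι e) := by
  haveI : IsLocalization ((Submonoid.powers e).map ι) (Localization.Away (ι e)) := by
    rw [Submonoid.map_powers]
    infer_instance
  exact IsLocalization.map_injective_of_injective _ _ (Localization.Away (ι e)) hι

lemma away_restrict {Z W : Scheme.{u}} (e h : E)
    (k : Spec (CommRingCat.of (Localization.Away h)) ⟶ W)
    (g : W ⟶ Spec (CommRingCat.of (Localization.Away e))) (hk : k ≫ g ≫ away e = away h)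
    (c : Spec (CommRingCat.of D) ⟶ Z) (z : Spec (CommRingCat.of (Localization.Away e)) ⟶ Z)
    (hz : Spec.map (CommRingCat.ofHom (IsLocalization.Away.map (Localization.Away e)
      (Localization.Away (ι e)) ι e)) ≫ z = away (ι e) ≫ c) :
    Spec.map (CommRingCat.ofHom (IsLocalization.Away.map (Localization.Away h)
      (Localization.Away (ι h)) ι h)) ≫ k ≫ g ≫ z = away (ι h) ≫ c := by
  let ι' : Localization.Away h →+* Localization.Away (ι h) :=
    IsLocalization.Away.map (Localization.Away h) (Localization.Away (ι h)) ι h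
  have hin : Set.range (away (ι h)) ⊆ Set.range (away (ι e)) := by
    rintro _ ⟨R, rfl⟩
    rw [mem_range_away]
    intro hmem
    have h1 := congrArg (fun t : Spec (CommRingCat.of (Localization.Away (ι h))) ⟶ _ => t R)
      (away_comap ι h)
    rw [← hk] at h1
    exact (mem_range_away e _).1 ⟨g (k (Spec.map (CommRingCat.ofHom ι') R)), h1⟩ hmem
  let m := IsOpenImmersion.lift (away (ι e)) (away (ι h)) hin
  have hm : m ≫ Spec.map (CommRingCat.ofHom (IsLocalization.Away.map
      (Localization.Away e) (Localization.Away (ι e)) ι e)) =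
      Spec.map (CommRingCat.ofHom ι') ≫ k ≫ g := by
    rw [← cancel_mono (away e), Category.assoc, away_comap,
      IsOpenImmersion.lift_fac_assoc, Category.assoc, Category.assoc, hk, away_comap]
  rw [← Category.assoc k g, ← Category.assoc, ← hm, Category.assoc, hz, ← Category.assoc,
    IsOpenImmersion.lift_fac]

/-- A morphism out of `Spec D` equalised by `p, q` factors through `Spec` of the equaliser. -/
theorem exists_descent (hι : Function.Injective ι) (hpq : p.comp ι = q.comp ι)
    (heq : ∀ d, p d = q d → ∃ e, ι e = d) (hnil : ∀ d : D, ∃ e : E, IsNilpotent (d - ι e))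
    {Z : Scheme.{u}} (c : Spec (CommRingCat.of D) ⟶ Z)
    (hc : Spec.map (CommRingCat.ofHom p) ≫ c = Spec.map (CommRingCat.ofHom q) ≫ c) :
    ∃ z : Spec (CommRingCat.of E) ⟶ Z, Spec.map (CommRingCat.ofHom ι) ≫ z = c := by
  have hloc : ∀ P : PrimeSpectrum E, ∃ e : E, e ∉ P.asIdeal ∧
      ∃ z : Spec (CommRingCat.of (Localization.Away e)) ⟶ Z,
        Spec.map (CommRingCat.ofHom (IsLocalization.Away.map (Localization.Away e)
          (Localization.Away (ι e)) ι e)) ≫ z = away (ι e) ≫ c := by
    intro P
    obtain ⟨Q, rfl⟩ := comap_surjective hι hnil P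
    obtain ⟨U, hU, d, hQd, hd⟩ := exists_away c Q
    obtain ⟨e, k, hk⟩ := hnil d
    have hQ : ∀ R : PrimeSpectrum D, d ∈ R.asIdeal ↔ ι e ∈ R.asIdeal := fun R => by
      have h0 : d - ι e ∈ R.asIdeal := R.2.mem_of_pow_mem k (hk ▸ R.asIdeal.zero_mem)
      exact ⟨fun h => by simpa using R.asIdeal.sub_mem h h0,
        fun h => by simpa using R.asIdeal.add_mem h0 h⟩
    refine ⟨e, fun h => hQd ((hQ Q).2 h), ?_⟩
    have hr : Set.range (away (ι e) ≫ c) ⊆ U := by
      rintro _ ⟨R, rfl⟩
      have hR := (mem_range_away (ι e) (away (ι e) R)).1 ⟨R, rfl⟩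
      obtain ⟨R', hR'⟩ := (mem_range_away d (away (ι e) R)).2 (fun h => hR ((hQ _).1 h))
      rw [Scheme.Hom.comp_apply, ← hR']
      exact hd ⟨R', rfl⟩
    obtain ⟨α, hα⟩ := exists_coord U hU _ hr
    have hpc : ∀ s, IsLocalization.Away.map (Localization.Away (ι e))
        (Localization.Away (p (ι e))) p (ι e) (α.hom s) =
        IsLocalization.map (M := Submonoid.powers (ι e)) (T := Submonoid.powers (p (ι e)))
          (Localization.Away (p (ι e))) q (by
            rintro _ ⟨n, rfl⟩
            refine ⟨n, ?_⟩
            simpa using congrArg (fun r => r ^ n) (RingHom.congr_fun hpq e)) (α.hom s) := by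
      intro s
      let p' : Localization.Away (ι e) →+* Localization.Away (p (ι e)) :=
        IsLocalization.Away.map (Localization.Away (ι e)) (Localization.Away (p (ι e))) p (ι e)
      let q' : Localization.Away (ι e) →+* Localization.Away (p (ι e)) :=
        IsLocalization.map (M := Submonoid.powers (ι e)) (T := Submonoid.powers (p (ι e)))
          (Localization.Away (p (ι e))) q (by
            rintro _ ⟨n, rfl⟩
            refine ⟨n, ?_⟩
            simpa using congrArg (fun r => r ^ n) (RingHom.congr_fun hpq e))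
      refine coord_ext hU (α := α ≫ CommRingCat.ofHom p') (β := α ≫ CommRingCat.ofHom q') ?_ s
      have h1 : Spec.map (CommRingCat.ofHom p') ≫ away (ι e) =
          away (p (ι e)) ≫ Spec.map (CommRingCat.ofHom p) := away_comap p (ι e)
      have h2 : Spec.map (CommRingCat.ofHom q') ≫ away (ι e) =
          away (p (ι e)) ≫ Spec.map (CommRingCat.ofHom q) := by
        rw [away, away, ← Spec.map_comp, ← Spec.map_comp, ← CommRingCat.ofHom_comp,
          ← CommRingCat.ofHom_comp]
        congr 2
        exact IsLocalization.map_comp _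
      simp only [Spec.map_comp, Category.assoc, hα]
      rw [← Category.assoc, h1, ← Category.assoc, h2, Category.assoc, Category.assoc, hc]
    let ι' : Localization.Away e →+* Localization.Away (ι e) :=
      IsLocalization.Away.map (Localization.Away e) (Localization.Away (ι e)) ι e
    have hbij : Function.Bijective ι'.rangeRestrict :=
      ⟨fun a b h => away_map_injective hι e (congrArg Subtype.val h),
        RingHom.rangeRestrict_surjective ι'⟩
    have hmem : ∀ s, α.hom s ∈ ι'.range := fun s => away_lift hι hpq heq e _ (hpc s)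
    let β : Γ(Z, U) →+* Localization.Away e :=
      (RingEquiv.ofBijective ι'.rangeRestrict hbij).symm.toRingHom.comp
        (α.hom.codRestrict ι'.range hmem)
    have hβ : ι'.comp β = α.hom := RingHom.ext fun s =>
      congrArg Subtype.val ((RingEquiv.ofBijective ι'.rangeRestrict hbij).apply_symm_apply
        ⟨α.hom s, hmem s⟩)
    refine ⟨Spec.map (CommRingCat.ofHom β) ≫ hU.fromSpec, ?_⟩
    rw [← Category.assoc, ← Spec.map_comp, ← CommRingCat.ofHom_comp, hβ]
    exact hα
  choose e heP z hz using hloc
  have hspan : Ideal.span (Set.range fun P => e P) = ⊤ := by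
    by_contra h
    obtain ⟨m, hm, hle⟩ := Ideal.exists_le_maximal _ h
    exact heP ⟨m, hm.isPrime⟩ (hle (Ideal.subset_span ⟨⟨m, hm.isPrime⟩, rfl⟩))
  let 𝒰 : (Spec (CommRingCat.of E)).OpenCover :=
    (Scheme.affineOpenCoverOfSpanRangeEqTop (R := CommRingCat.of E) (fun P => e P) hspan).openCover
  have hf : ∀ i, 𝒰.f i = away (e i) := fun i => rfl
  let zz : ∀ i, 𝒰.X i ⟶ Z := fun i => z i
  have agree : ∀ i j, pullback.fst (𝒰.f i) (𝒰.f j) ≫ zz i = pullback.snd _ _ ≫ zz j := by
    intro i j
    refine Scheme.hom_ext_of_forall _ _ fun w => ?_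
    let r : pullback (𝒰.f i) (𝒰.f j) ⟶ Spec (CommRingCat.of E) := pullback.fst _ _ ≫ 𝒰.f i
    obtain ⟨_, ⟨h, rfl⟩, hwh, hh⟩ :=
      PrimeSpectrum.isTopologicalBasis_basic_opens.exists_subset_of_mem_open
        (u := ((r.opensRange : (Spec (CommRingCat.of E)).Opens) : Set (Spec (CommRingCat.of E))))
        ⟨w, rfl⟩ r.opensRange.2
    have hhr : Set.range (away h) ⊆ Set.range r := by
      rintro _ ⟨Q, rfl⟩
      exact hh ((mem_range_away h _).1 ⟨Q, rfl⟩)
    let k := IsOpenImmersion.lift r (away h) hhr
    have hk : k ≫ r = away h := IsOpenImmersion.lift_fac _ _ _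
    have key : k ≫ pullback.fst _ _ ≫ zz i = k ≫ pullback.snd _ _ ≫ zz j := by
      let ι' : Localization.Away h →+* Localization.Away (ι h) :=
        IsLocalization.Away.map (Localization.Away h) (Localization.Away (ι h)) ι h
      have hnil' : Function.Surjective (PrimeSpectrum.comap ι') := by
        intro P
        obtain ⟨Q, hQ⟩ := comap_surjective hι hnil (away h P)
        have hQh : ι h ∉ Q.asIdeal := fun hc' =>
          (mem_range_away h (away h P)).1 ⟨P, rfl⟩ (hQ ▸ hc')
        obtain ⟨R, rfl⟩ := (mem_range_away (ι h) Q).2 hQh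
        refine ⟨R, ?_⟩
        apply (away h).isOpenEmbedding.injective
        rw [← hQ]
        exact congrArg (fun t : Spec (CommRingCat.of (Localization.Away (ι h))) ⟶ _ => t R)
          (away_comap ι h)
      refine spec_hom_ext ι' ι' hnil'
        (fun d hd _ => away_map_injective hι h (by rw [hd, map_zero])) _ _ ?_ ?_ <;>
      exact (away_restrict (e i) h k (pullback.fst (𝒰.f i) (𝒰.f j)) hk c _ (hz i)).trans
        (away_restrict (e j) h k (pullback.snd (𝒰.f i) (𝒰.f j))
          ((congrArg (fun t => k ≫ t) pullback.condition.symm).trans hk) c _ (hz j)).symm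
    refine ⟨k.opensRange, ?_, ?_⟩
    · obtain ⟨Q, hQ⟩ := (mem_range_away h (r w)).2 hwh
      exact ⟨Q, r.isOpenEmbedding.injective (by rw [← hQ, ← hk]; rfl)⟩
    · rw [← cancel_epi k.isoOpensRange.hom]
      simpa [Scheme.Hom.isoOpensRange] using key
  refine ⟨𝒰.glueMorphisms zz agree, ?_⟩
  have hspan' : Ideal.span (Set.range fun P => ι (e P)) = ⊤ := by
    have := congrArg (Ideal.map ι) hspan
    rw [Ideal.map_span, Ideal.map_top, ← Set.range_comp] at this
    exact this
  refine Scheme.Cover.hom_ext (Scheme.affineOpenCoverOfSpanRangeEqTop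
    (R := CommRingCat.of D) (fun P => ι (e P)) hspan').openCover _ _ fun i => ?_
  show away (ι (e i)) ≫ Spec.map (CommRingCat.ofHom ι) ≫ _ = away (ι (e i)) ≫ c
  rw [← Category.assoc, ← away_comap, Category.assoc]
  exact (congrArg (_ ≫ ·) (Scheme.Cover.ι_glueMorphisms 𝒰 zz agree i)).trans (hz i)

end GrothLib.LiePts
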