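import Mathlib.AlgebraicGeometry.Gluing
import Mathlib.AlgebraicGeometry.AffineScheme
import Mathlib.AlgebraicGeometry.Cover.Open
import Mathlib.RingTheory.Localization.Away.Basic

/-!
# Morphisms out of spectra of nilpotent thickenings

Morphisms `Spec D ⟶ Z` to an arbitrary scheme are determined by a jointly injective pair of
reductions, and descend along equalisers `E → D ⇉ D'` with `D` a nilpotent thickening of `E`.
-/

universe u

open CategoryTheory CategoryTheory.Limits AlgebraicGeometry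

namespace GrothLib.LiePts

section Spec

variable {D : Type u} [CommRing D]

/-- The affine open piece `Spec D_d ⟶ Spec D`. -/
noncomputable abbrev away (d : D) :
    Spec (CommRingCat.of (Localization.Away d)) ⟶ Spec (CommRingCat.of D) :=
  Spec.map (CommRingCat.ofHom (algebraMap D (Localization.Away d)))

lemma mem_range_away (d : D) (P : Spec (CommRingCat.of D)) :
    P ∈ Set.range (away d) ↔ d ∉ P.asIdeal := by
  have h : Set.range (away d) =
      (PrimeSpectrum.basicOpen d : Set (PrimeSpectrum D)) :=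
    PrimeSpectrum.localization_away_comap_range _ d
  rw [h]
  rfl

lemma away_comap {E : Type u} [CommRing E] (ι : E →+* D) (e : E) :
    Spec.map (CommRingCat.ofHom (IsLocalization.Away.map (Localization.Away e)
        (Localization.Away (ι e)) ι e)) ≫ away e =
      away (ι e) ≫ Spec.map (CommRingCat.ofHom ι) := by
  rw [away, away, ← Spec.map_comp, ← Spec.map_comp, ← CommRingCat.ofHom_comp,
    ← CommRingCat.ofHom_comp]
  congr 2
  exact IsLocalization.map_comp _

lemma exists_coord {Z : Scheme.{u}} (U : Z.Opens) (hU : IsAffineOpen U) {C : Type u} [CommRing C]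
    (c : Spec (CommRingCat.of C) ⟶ Z) (hc : Set.range c ⊆ U) :
    ∃ α : Γ(Z, U) ⟶ CommRingCat.of C, Spec.map α ≫ hU.fromSpec = c := by
  have hr : Set.range c ⊆ Set.range hU.fromSpec := by rw [hU.range_fromSpec]; exact hc
  refine ⟨Spec.preimage (IsOpenImmersion.lift hU.fromSpec c hr), ?_⟩
  rw [Spec.map_preimage, IsOpenImmersion.lift_fac]

lemma coord_ext {Z : Scheme.{u}} {U : Z.Opens} (hU : IsAffineOpen U) {C : Type u} [CommRing C]
    {α β : Γ(Z, U) ⟶ CommRingCat.of C}
    (h : Spec.map α ≫ hU.fromSpec = Spec.map β ≫ hU.fromSpec) (s : Γ(Z, U)) :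
    α.hom s = β.hom s := by
  rw [cancel_mono] at h
  rw [Spec.map_injective h]

/-- Near every point a morphism out of an affine scheme lands in an affine open. -/
lemma exists_away {Z : Scheme.{u}} (c : Spec (CommRingCat.of D) ⟶ Z)
    (P : Spec (CommRingCat.of D)) :
    ∃ (U : Z.Opens) (_ : IsAffineOpen U) (d : D),
      d ∉ P.asIdeal ∧ Set.range (away d ≫ c) ⊆ U := by
  obtain ⟨U, hU, hPU, -⟩ :=
    exists_isAffineOpen_mem_and_subset (show c P ∈ (⊤ : Z.Opens) from trivial)
  obtain ⟨_, ⟨d, rfl⟩, hPd, hd⟩ :=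
    PrimeSpectrum.isTopologicalBasis_basic_opens.exists_subset_of_mem_open
      (u := ((c ⁻¹ᵁ U : (Spec (CommRingCat.of D)).Opens) : Set (Spec (CommRingCat.of D))))
      hPU (c ⁻¹ᵁ U).2
  refine ⟨U, hU, d, hPd, ?_⟩
  rintro _ ⟨Q, rfl⟩
  exact hd ((mem_range_away d (away d Q)).1 ⟨Q, rfl⟩)

/-- Morphisms out of `Spec D` are determined by a jointly injective pair of reductions, the first
of which is surjective on points. -/
theorem spec_hom_ext {D₁ D₂ : Type u} [CommRing D₁] [CommRing D₂] (π₁ : D →+* D₁) (π₂ : D →+* D₂)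
    (hsurj : Function.Surjective (PrimeSpectrum.comap π₁))
    (hinj : ∀ d, π₁ d = 0 → π₂ d = 0 → d = 0) {Z : Scheme.{u}}
    (f g : Spec (CommRingCat.of D) ⟶ Z)
    (h₁ : Spec.map (CommRingCat.ofHom π₁) ≫ f = Spec.map (CommRingCat.ofHom π₁) ≫ g)
    (h₂ : Spec.map (CommRingCat.ofHom π₂) ≫ f = Spec.map (CommRingCat.ofHom π₂) ≫ g) : f = g := by
  have hfg : ∀ P, f P = g P := fun P => by
    obtain ⟨Q, rfl⟩ := hsurj P
    exact congrArg (fun k : Spec (CommRingCat.of D₁) ⟶ Z => k Q) h₁
  refine Scheme.hom_ext_of_forall f g fun P => ?_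
  obtain ⟨U, hU, d, hPd, hd⟩ := exists_away f P
  refine ⟨(away d).opensRange, (mem_range_away d P).2 hPd, ?_⟩
  have hg : Set.range (away d ≫ g) ⊆ U := by
    rintro _ ⟨Q, rfl⟩
    rw [Scheme.Hom.comp_apply, ← hfg]
    exact hd ⟨Q, rfl⟩
  suffices key : away d ≫ f = away d ≫ g by
    rw [← cancel_epi (away d).isoOpensRange.hom]
    simpa [Scheme.Hom.isoOpensRange] using key
  obtain ⟨α, hα⟩ := exists_coord U hU _ hd
  obtain ⟨β, hβ⟩ := exists_coord U hU _ hg
  rw [← hα, ← hβ]
  congr 2
  ext s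
  have hloc : ∀ {C : Type u} [CommRing C] (π : D →+* C),
      Spec.map (CommRingCat.ofHom π) ≫ f = Spec.map (CommRingCat.ofHom π) ≫ g →
      IsLocalization.Away.map (Localization.Away d) (Localization.Away (π d)) π d (α.hom s) =
        IsLocalization.Away.map (Localization.Away d) (Localization.Away (π d)) π d (β.hom s) := by
    intro C _ π h
    have := coord_ext hU (α := α ≫ CommRingCat.ofHom (IsLocalization.Away.map _ _ π d))
      (β := β ≫ CommRingCat.ofHom (IsLocalization.Away.map _ _ π d)) (by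
        rw [Spec.map_comp, Spec.map_comp, Category.assoc, Category.assoc, hα, hβ,
          ← Category.assoc, ← Category.assoc, away_comap, Category.assoc, Category.assoc, h]) s
    exact this
  have h1 := hloc π₁ h₁
  have h2 := hloc π₂ h₂
  rw [← sub_eq_zero, ← map_sub] at h1 h2
  rw [← sub_eq_zero]
  obtain ⟨n, a, ha⟩ := IsLocalization.Away.surj d (α.hom s - β.hom s)
  have hz : ∀ {C : Type u} [CommRing C] (π : D →+* C),
      IsLocalization.Away.map (Localization.Away d) (Localization.Away (π d)) π d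
        (α.hom s - β.hom s) = 0 → ∃ m : ℕ, π (d ^ m * a) = 0 := by
    intro C _ π h
    have h' := congrArg (IsLocalization.Away.map (Localization.Away d)
      (Localization.Away (π d)) π d) ha
    rw [map_mul, h, zero_mul] at h'
    simp only [IsLocalization.Away.map, IsLocalization.map_eq] at h'
    obtain ⟨⟨_, m, rfl⟩, hm⟩ := (IsLocalization.map_eq_zero_iff (Submonoid.powers (π d))
      (Localization.Away (π d)) (π a)).1 h'.symm
    exact ⟨m, by simpa using hm⟩
  obtain ⟨m₁, hm₁⟩ := hz π₁ h1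
  obtain ⟨m₂, hm₂⟩ := hz π₂ h2
  have h0 : d ^ (m₁ + m₂) * a = 0 := by
    refine hinj _ ?_ ?_
    · rw [show d ^ (m₁ + m₂) * a = d ^ m₂ * (d ^ m₁ * a) by ring, map_mul, hm₁, mul_zero]
    · rw [show d ^ (m₁ + m₂) * a = d ^ m₁ * (d ^ m₂ * a) by ring, map_mul, hm₂, mul_zero]
  have hu : IsUnit (algebraMap D (Localization.Away d) d) :=
    IsLocalization.Away.algebraMap_isUnit d
  have h00 := congrArg (algebraMap D (Localization.Away d)) h0
  rw [map_mul, map_pow, map_zero, (hu.pow _).mul_right_eq_zero, ← ha,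
    (hu.pow _).mul_left_eq_zero] at h00
  exact h00

end Spec

section Descent

variable {E D D' : Type u} [CommRing E] [CommRing D] [CommRing D'] {ι : E →+* D} {p q : D →+* D'}

lemma comap_injective (hnil : ∀ d : D, ∃ e : E, IsNilpotent (d - ι e)) :
    Function.Injective (PrimeSpectrum.comap ι) := by
  intro P Q h
  refine PrimeSpectrum.ext (Ideal.ext fun d => ?_)
  obtain ⟨e, n, hn⟩ := hnil d
  have hP : d - ι e ∈ P.asIdeal := P.2.mem_of_pow_mem n (hn ▸ P.asIdeal.zero_mem)
  have hQ : d - ι e ∈ Q.asIdeal := Q.2.mem_of_pow_mem n (hn ▸ Q.asIdeal.zero_mem)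
  have he : ι e ∈ P.asIdeal ↔ ι e ∈ Q.asIdeal := by
    have := congrArg (fun R : PrimeSpectrum E => e ∈ R.asIdeal) h
    simpa using this
  constructor
  · intro hd
    have h1 : ι e ∈ P.asIdeal := by simpa using P.asIdeal.sub_mem hd hP
    simpa using Q.asIdeal.add_mem hQ (he.1 h1)
  · intro hd
    have h1 : ι e ∈ Q.asIdeal := by simpa using Q.asIdeal.sub_mem hd hQ
    simpa using P.asIdeal.add_mem hP (he.2 h1)

lemma comap_surjective (hι : Function.Injective ι)
    (hnil : ∀ d : D, ∃ e : E, IsNilpotent (d - ι e)) :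
    Function.Surjective (PrimeSpectrum.comap ι) := by
  intro P
  let χ : E →+* D ⧸ nilradical D := (Ideal.Quotient.mk _).comp ι
  have hχ : Function.Surjective χ := by
    intro x
    obtain ⟨d, rfl⟩ := Ideal.Quotient.mk_surjective x
    obtain ⟨e, he⟩ := hnil d
    exact ⟨e, (Ideal.Quotient.eq.2 (mem_nilradical.2 he)).symm⟩
  have hker : RingHom.ker χ ≤ RingHom.ker (Ideal.Quotient.mk P.asIdeal) := by
    intro e he
    obtain ⟨n, hn⟩ := mem_nilradical.1 (Ideal.Quotient.eq_zero_iff_mem.1 he)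
    rw [← map_pow] at hn
    have h0 : e ^ n = 0 := hι (by rw [hn, map_zero])
    rw [Ideal.mk_ker]
    exact P.2.mem_of_pow_mem n (h0 ▸ P.asIdeal.zero_mem)
  let φ : D →+* E ⧸ P.asIdeal :=
    (χ.liftOfSurjective hχ ⟨Ideal.Quotient.mk P.asIdeal, hker⟩).comp (Ideal.Quotient.mk _)
  have hφ : ∀ e, φ (ι e) = Ideal.Quotient.mk P.asIdeal e := fun e =>
    χ.liftOfRightInverse_comp_apply _ (Function.rightInverse_surjInv hχ) ⟨Ideal.Quotient.mk P.asIdeal, hker⟩ e
  refine ⟨⟨RingHom.ker φ, RingHom.ker_isPrime φ⟩, PrimeSpectrum.ext (Ideal.ext fun e => ?_)⟩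
  show φ (ι e) = 0 ↔ _
  rw [hφ, Ideal.Quotient.eq_zero_iff_mem]

end Descent

end GrothLib.LiePts
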